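import Mathlib

set_option autoImplicit false

namespace Cfsg.Agent.Lib.Helper1.Dickson

open Finset

section
variable {G X : Type*} [Group G] [Fintype G] [Fintype X] [MulAction G X]

open Classical in
theorem orb_mul_stab (ω : X) :
    (univ.filter (fun x : X => x ∈ MulAction.orbit G ω)).card *
      (univ.filter (fun g : G => g • ω = ω)).card = Fintype.card G := by
  have h := MulAction.card_orbit_mul_card_stabilizer_eq_card_group G ω
  rw [← h]
  congr 1
  · symm
    apply Fintype.card_of_subtype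
    intro x
    simp
  · symm
    apply Fintype.card_of_subtype
    intro g
    simp [MulAction.mem_stabilizer_iff]

open Classical in
theorem conj_count (φ : G → Prop) (hφ : ∀ y g : G, φ (y * g * y⁻¹) ↔ φ g) (y : G) (ω : X) :
    (univ.filter (fun g : G => g • (y • ω) = y • ω ∧ φ g)).card =
      (univ.filter (fun g : G => g • ω = ω ∧ φ g)).card := by
  apply Finset.card_nbij' (fun g => y⁻¹ * g * y) (fun g => y * g * y⁻¹)
  · intro g hg
    simp only [coe_filter, mem_univ, true_and, Set.mem_setOf_eq] at hg ⊢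
    refine ⟨?_, ?_⟩
    · rw [mul_smul, mul_smul, hg.1, inv_smul_smul]
    · have := hφ y⁻¹ g
      rw [inv_inv] at this
      exact this.mpr hg.2
  · intro g hg
    simp only [coe_filter, mem_univ, true_and, Set.mem_setOf_eq] at hg ⊢
    refine ⟨?_, (hφ y g).mpr hg.2⟩
    rw [mul_smul, mul_smul, inv_smul_smul, hg.1]
  · intro g _
    group
  · intro g _
    group

open Classical in
theorem acl_sum (U : G → Prop) (z : G) (ω₀ : X) (r : ℕ) (hr : 2 ≤ r)
    (hz1 : z ≠ 1) (hzfix : ∀ ω : X, z • ω = ω) (hU1 : U 1) (hUz : U z)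
    (hUconj : ∀ y g : G, U (y * g * y⁻¹) ↔ U g)
    (h1 : ∀ g : G, ¬ U g → (univ.filter (fun ω : X => g • ω = ω)).card = 2)
    (h2 : ∀ g : G, U g → g ≠ 1 → g ≠ z →
      ∃ ω ∈ MulAction.orbit G ω₀, ∀ ω' : X, g • ω' = ω' ↔ ω' = ω)
    (h4 : (univ.filter (fun g : G => g • ω₀ = ω₀ ∧ U g)).card = 2 * r) :
    (∑ ω ∈ univ.filter (fun ω : X => ω ∉ MulAction.orbit G ω₀),
        ((univ.filter (fun g : G => g • ω = ω)).card - 2)) +
      2 * (2 + (univ.filter (fun ω : X => ω ∈ MulAction.orbit G ω₀)).card * (r - 2)) =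
      Fintype.card G := by
  obtain ⟨r', rfl⟩ : ∃ r', r = r' + 2 := ⟨r - 2, by omega⟩
  set P := univ.filter (fun ω : X => ω ∈ MulAction.orbit G ω₀) with hP
  set Pc := univ.filter (fun ω : X => ω ∉ MulAction.orbit G ω₀) with hPc
  set n := P.card with hn
  set a := Fintype.card G with ha
  set σ : X → ℕ := fun ω => (univ.filter (fun g : G => g • ω = ω)).card with hσ
  set uc : X → ℕ := fun ω => (univ.filter (fun g : G => g • ω = ω ∧ U g)).card with huc
  set sc : X → ℕ := fun ω => (univ.filter (fun g : G => g • ω = ω ∧ ¬ U g)).card with hsc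
  have e1 : n * σ ω₀ = a := orb_mul_stab ω₀
  have hsplit : ∀ ω, uc ω + sc ω = σ ω := by
    intro ω
    have := Finset.card_filter_add_card_filter_not
      (s := univ.filter (fun g : G => g • ω = ω)) U
    rw [Finset.filter_filter, Finset.filter_filter] at this
    exact this
  have hPmem : ∀ ω ∈ P, uc ω = 2 * (r' + 2) ∧ sc ω = sc ω₀ := by
    intro ω hω
    rw [hP, mem_filter] at hω
    obtain ⟨y, rfl⟩ := hω.2
    refine ⟨?_, ?_⟩
    · rw [← h4]
      exact conj_count U hUconj y ω₀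
    · have := conj_count (fun g => ¬ U g) (fun y g => not_congr (hUconj y g)) y ω₀
      convert this
  have hZsub : ∀ ω : X, ({1, z} : Finset G) ⊆ univ.filter (fun g : G => g • ω = ω ∧ U g) := by
    intro ω g hg
    rw [mem_insert, mem_singleton] at hg
    rw [mem_filter]
    rcases hg with rfl | rfl
    · exact ⟨mem_univ _, one_smul _ _, hU1⟩
    · exact ⟨mem_univ _, hzfix ω, hUz⟩
  have hZcard : ({1, z} : Finset G).card = 2 := Finset.card_pair (Ne.symm hz1)
  have hPcmem : ∀ ω ∈ Pc, uc ω = 2 := by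
    intro ω hω
    rw [hPc, mem_filter] at hω
    rw [← hZcard]
    show (univ.filter (fun g : G => g • ω = ω ∧ U g)).card = _
    congr 1
    apply Finset.Subset.antisymm _ (hZsub ω)
    intro g hg
    rw [mem_filter] at hg
    rw [mem_insert, mem_singleton]
    by_contra hne
    push Not at hne
    obtain ⟨ω', hω', hfix⟩ := h2 g hg.2.2 hne.1 hne.2
    have := (hfix ω).mp hg.2.1
    rw [this] at hω
    exact hω.2 hω'
  set nonU := univ.filter (fun g : G => ¬ U g) with hnonU
  set Uall := univ.filter (fun g : G => U g) with hUall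
  set U' := univ.filter (fun g : G => U g ∧ g ≠ 1 ∧ g ≠ z) with hU'
  have e4 : Uall.card + nonU.card = a := by
    rw [ha, ← Finset.card_univ]
    exact Finset.card_filter_add_card_filter_not (s := (univ : Finset G)) U
  have e5 : Uall.card = U'.card + 2 := by
    have hsub : ({1, z} : Finset G) ⊆ Uall := by
      intro g hg
      rw [mem_insert, mem_singleton] at hg
      rw [hUall, mem_filter]
      rcases hg with rfl | rfl
      · exact ⟨mem_univ _, hU1⟩
      · exact ⟨mem_univ _, hUz⟩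
    have hsd : U' = Uall \ {1, z} := by
      ext g
      simp only [hU', hUall, mem_filter, mem_univ, true_and, mem_sdiff, mem_insert,
        mem_singleton, not_or]
    rw [hsd, Finset.card_sdiff_of_subset hsub, hZcard]
    have := Finset.card_le_card hsub
    rw [hZcard] at this
    omega
  have dc1 : 2 * nonU.card = ∑ ω : X, sc ω := by
    have := Finset.sum_card_bipartiteAbove_eq_sum_card_bipartiteBelow
      (s := nonU) (t := (univ : Finset X)) (fun (g : G) (ω : X) => g • ω = ω)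
    have hl : ∑ g ∈ nonU, (Finset.bipartiteAbove (fun (g : G) (ω : X) => g • ω = ω) univ g).card =
        ∑ g ∈ nonU, 2 := by
      apply Finset.sum_congr rfl
      intro g hg
      rw [hnonU, mem_filter] at hg
      rw [← h1 g hg.2]
      rfl
    rw [hl, Finset.sum_const, smul_eq_mul, mul_comm] at this
    rw [this]
    apply Finset.sum_congr rfl
    intro ω _
    show (nonU.filter (fun g => g • ω = ω)).card = sc ω
    rw [hnonU, Finset.filter_filter]
    congr 1
    ext g
    simp only [mem_filter, mem_univ, true_and]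
    tauto
  have dc2 : U'.card = ∑ ω : X, (uc ω - 2) := by
    have := Finset.sum_card_bipartiteAbove_eq_sum_card_bipartiteBelow
      (s := U') (t := (univ : Finset X)) (fun (g : G) (ω : X) => g • ω = ω)
    have hl : ∑ g ∈ U', (Finset.bipartiteAbove (fun (g : G) (ω : X) => g • ω = ω) univ g).card =
        ∑ g ∈ U', 1 := by
      apply Finset.sum_congr rfl
      intro g hg
      rw [hU', mem_filter] at hg
      obtain ⟨ω', -, hfix⟩ := h2 g hg.2.1 hg.2.2.1 hg.2.2.2
      have : Finset.bipartiteAbove (fun (g : G) (ω : X) => g • ω = ω) univ g = {ω'} := by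
        ext ω
        simp only [Finset.bipartiteAbove, mem_filter, mem_univ, true_and, mem_singleton]
        exact hfix ω
      rw [this, Finset.card_singleton]
    rw [hl, Finset.sum_const, smul_eq_mul, mul_one] at this
    rw [this]
    apply Finset.sum_congr rfl
    intro ω _
    show (U'.filter (fun g => g • ω = ω)).card = uc ω - 2
    have hsd : U'.filter (fun g => g • ω = ω) =
        (univ.filter (fun g : G => g • ω = ω ∧ U g)) \ {1, z} := by
      ext g
      simp only [hU', mem_filter, mem_univ, true_and, mem_sdiff, mem_insert,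
        mem_singleton, not_or]
      tauto
    rw [hsd, Finset.card_sdiff_of_subset (hZsub ω), hZcard]
  have hsum_uc : ∑ ω : X, (uc ω - 2) = n * (2 * r' + 2) := by
    rw [← Finset.sum_filter_add_sum_filter_not univ (fun ω : X => ω ∈ MulAction.orbit G ω₀)]
    have hA : ∑ ω ∈ P, (uc ω - 2) = n * (2 * r' + 2) := by
      rw [hn, ← smul_eq_mul, ← Finset.sum_const]
      apply Finset.sum_congr rfl
      intro ω hω
      rw [(hPmem ω hω).1]
      omega
    have hB : ∑ ω ∈ Pc, (uc ω - 2) = 0 := by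
      apply Finset.sum_eq_zero
      intro ω hω
      have := hPcmem ω hω
      omega
    rw [← hP, ← hPc, hA, hB, add_zero]
  have hsum_sc : ∑ ω : X, sc ω = n * sc ω₀ + ∑ ω ∈ Pc, (σ ω - 2) := by
    rw [← Finset.sum_filter_add_sum_filter_not univ (fun ω : X => ω ∈ MulAction.orbit G ω₀)]
    rw [← hP, ← hPc]
    congr 1
    · rw [hn, ← smul_eq_mul, ← Finset.sum_const]
      apply Finset.sum_congr rfl
      intro ω hω
      exact (hPmem ω hω).2
    · apply Finset.sum_congr rfl
      intro ω hω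
      have := hsplit ω
      rw [hPcmem ω hω] at this
      omega
  have e2 : sc ω₀ + 2 * (r' + 2) = σ ω₀ := by
    have := hsplit ω₀
    have h4' : uc ω₀ = 2 * (r' + 2) := h4
    omega
  set T' := ∑ ω ∈ Pc, (σ ω - 2) with hT'
  have e6 : U'.card = n * (2 * r' + 2) := dc2.trans hsum_uc
  have e3 : 2 * nonU.card = n * sc ω₀ + T' := dc1.trans hsum_sc
  have e1' : n * sc ω₀ + 2 * (n * r') + 4 * n = a := by
    rw [← e1, ← e2]
    ring
  show T' + 2 * (2 + n * (r' + 2 - 2)) = a
  have : r' + 2 - 2 = r' := by omega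
  rw [this]
  have e6' : U'.card = 2 * (n * r') + 2 * n := by rw [e6]; ring
  have : 2 * (2 + n * r') = 4 + 2 * (n * r') := by ring
  rw [this]
  omega

open Classical in
theorem stab_card_smul (y : G) (ω : X) :
    (univ.filter (fun g : G => g • (y • ω) = y • ω)).card =
      (univ.filter (fun g : G => g • ω = ω)).card := by
  have := conj_count (X := X) (fun _ : G => True) (fun _ _ => Iff.rfl) y ω
  simpa using this

open Classical in
theorem two_dvd_stab (z : G) (hz1 : z ≠ 1) (hzz : z * z = 1) (hzfix : ∀ ω : X, z • ω = ω)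
    (ω : X) : 2 ∣ (univ.filter (fun g : G => g • ω = ω)).card := by
  have ho : orderOf z = 2 := orderOf_eq_prime (by rw [pow_two]; exact hzz) hz1
  have hmem : z ∈ MulAction.stabilizer G ω := MulAction.mem_stabilizer_iff.mpr (hzfix ω)
  have h1 := Subgroup.orderOf_dvd_natCard (MulAction.stabilizer G ω) hmem
  rw [ho, Nat.card_eq_fintype_card] at h1
  have h2 : Fintype.card (MulAction.stabilizer G ω) =
      (univ.filter (fun g : G => g • ω = ω)).card := by
    apply Fintype.card_of_subtype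
    intro g
    simp [MulAction.mem_stabilizer_iff]
  rwa [h2] at h1

open Classical in
theorem orbit_sum (ω₁ : X) :
    ∑ ω ∈ univ.filter (fun x : X => x ∈ MulAction.orbit G ω₁),
      ((univ.filter (fun g : G => g • ω = ω)).card - 2) =
    (univ.filter (fun x : X => x ∈ MulAction.orbit G ω₁)).card *
      ((univ.filter (fun g : G => g • ω₁ = ω₁)).card - 2) := by
  rw [← smul_eq_mul, ← Finset.sum_const]
  apply Finset.sum_congr rfl
  intro ω hω
  rw [mem_filter] at hω
  obtain ⟨y, rfl⟩ := hω.2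
  show (univ.filter (fun g : G => g • (y • ω₁) = y • ω₁)).card - 2 = _
  rw [stab_card_smul]

open Classical in
theorem acl_div (z : G) (hz1 : z ≠ 1) (hzz : z * z = 1) (hzfix : ∀ ω : X, z • ω = ω) (ω₀ : X)
    (M : ℕ) (hM : 0 < M)
    (hT : (∑ ω ∈ univ.filter (fun ω : X => ω ∉ MulAction.orbit G ω₀),
        ((univ.filter (fun g : G => g • ω = ω)).card - 2)) + 2 * M = Fintype.card G) :
    2 * M ∣ Fintype.card G := by
  set Pc := univ.filter (fun ω : X => ω ∉ MulAction.orbit G ω₀) with hPc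
  set σ : X → ℕ := fun ω => (univ.filter (fun g : G => g • ω = ω)).card with hσ
  set a := Fintype.card G with ha
  have hT' : (∑ ω ∈ Pc, (σ ω - 2)) + 2 * M = a := hT
  have heven : ∀ ω, 2 ∣ σ ω := two_dvd_stab z hz1 hzz hzfix
  have horbsub : ∀ ω₁ ∈ Pc, univ.filter (fun x : X => x ∈ MulAction.orbit G ω₁) ⊆ Pc := by
    intro ω₁ hω₁ x hx
    rw [mem_filter] at hx
    rw [hPc, mem_filter] at hω₁ ⊢
    refine ⟨mem_univ _, fun hx0 => hω₁.2 ?_⟩
    have h1 : MulAction.orbit G x = MulAction.orbit G ω₁ := MulAction.orbit_eq_iff.mpr hx.2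
    have h2 : MulAction.orbit G x = MulAction.orbit G ω₀ := MulAction.orbit_eq_iff.mpr hx0
    rw [← MulAction.orbit_eq_iff, ← h1, h2]
  have hcontrib : ∀ ω₁ : X, 2 < σ ω₁ →
      ∃ o : ℕ, o = (univ.filter (fun x : X => x ∈ MulAction.orbit G ω₁)).card ∧
        ∑ ω ∈ univ.filter (fun x : X => x ∈ MulAction.orbit G ω₁), (σ ω - 2) + 2 * o = a ∧
        4 * o ≤ a ∧ o * σ ω₁ = a := by
    intro ω₁ h2
    refine ⟨_, rfl, ?_⟩
    have h1 := orb_mul_stab (G := G) ω₁
    have h3 := orbit_sum (G := G) ω₁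
    obtain ⟨s, hs⟩ := heven ω₁
    have hs2 : 2 ≤ s := by omega
    set o := (univ.filter (fun x : X => x ∈ MulAction.orbit G ω₁)).card with ho
    have h1' : o * σ ω₁ = a := h1
    have h3' : ∑ ω ∈ univ.filter (fun x : X => x ∈ MulAction.orbit G ω₁), (σ ω - 2) =
        o * (σ ω₁ - 2) := h3
    rw [h3']
    rw [hs] at h1' ⊢
    obtain ⟨s', rfl⟩ : ∃ s', s = s' + 2 := ⟨s - 2, by omega⟩
    have e1 : 2 * (s' + 2) - 2 = 2 * s' + 2 := by omega
    rw [e1]
    refine ⟨?_, ?_, h1'⟩
    · rw [← h1']; ring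
    · rw [← h1']
      have : o * (2 * (s' + 2)) = 4 * o + 2 * (o * s') := by ring
      omega
  by_cases hc1 : ∀ ω ∈ Pc, σ ω ≤ 2
  · have : ∑ ω ∈ Pc, (σ ω - 2) = 0 := by
      apply Finset.sum_eq_zero
      intro ω hω
      have := hc1 ω hω
      omega
    rw [this, zero_add] at hT'
    rw [← hT']
  · push Not at hc1
    obtain ⟨ω₁, hω₁, h1⟩ := hc1
    set O₁ := univ.filter (fun x : X => x ∈ MulAction.orbit G ω₁) with hO₁
    obtain ⟨o₁, ho₁, hs₁, hle₁, hos₁⟩ := hcontrib ω₁ h1
    rw [← hO₁] at hs₁ ho₁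
    have hsub₁ : O₁ ⊆ Pc := horbsub ω₁ hω₁
    by_cases hc2 : ∀ ω ∈ Pc, ω ∉ O₁ → σ ω ≤ 2
    · have hsum : ∑ ω ∈ O₁, (σ ω - 2) = ∑ ω ∈ Pc, (σ ω - 2) := by
        apply Finset.sum_subset hsub₁
        intro ω hω hωn
        have := hc2 ω hω hωn
        omega
      rw [← hsum] at hT'
      have hoM : o₁ = M := by omega
      obtain ⟨s, hs⟩ := heven ω₁
      rw [← hos₁, hoM, hs]
      exact ⟨s, by ring⟩
    · exfalso
      push Not at hc2
      obtain ⟨ω₂, hω₂, hn₂, h2⟩ := hc2
      set O₂ := univ.filter (fun x : X => x ∈ MulAction.orbit G ω₂) with hO₂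
      obtain ⟨o₂, ho₂, hs₂, hle₂, hos₂⟩ := hcontrib ω₂ h2
      rw [← hO₂] at hs₂ ho₂
      have hsub₂ : O₂ ⊆ Pc := horbsub ω₂ hω₂
      have hdisj : Disjoint O₁ O₂ := by
        rw [Finset.disjoint_left]
        intro x hx1 hx2
        rw [hO₁, mem_filter] at hx1
        rw [hO₂, mem_filter] at hx2
        apply hn₂
        rw [hO₁, mem_filter]
        refine ⟨mem_univ _, ?_⟩
        have e1 : MulAction.orbit G x = MulAction.orbit G ω₁ := MulAction.orbit_eq_iff.mpr hx1.2
        have e2 : MulAction.orbit G x = MulAction.orbit G ω₂ := MulAction.orbit_eq_iff.mpr hx2.2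
        rw [← MulAction.orbit_eq_iff, ← e2, e1]
      have hle : ∑ ω ∈ O₁ ∪ O₂, (σ ω - 2) ≤ ∑ ω ∈ Pc, (σ ω - 2) :=
        Finset.sum_le_sum_of_subset (Finset.union_subset hsub₁ hsub₂)
      rw [Finset.sum_union hdisj] at hle
      omega

open Classical in
theorem acl (U : G → Prop) (z : G) (ω₀ : X) (r : ℕ) (hr : 2 ≤ r)
    (hz1 : z ≠ 1) (hzz : z * z = 1) (hzfix : ∀ ω : X, z • ω = ω) (hU1 : U 1) (hUz : U z)
    (hUconj : ∀ y g : G, U (y * g * y⁻¹) ↔ U g)
    (h1 : ∀ g : G, ¬ U g → (univ.filter (fun ω : X => g • ω = ω)).card = 2)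
    (h2 : ∀ g : G, U g → g ≠ 1 → g ≠ z →
      ∃ ω ∈ MulAction.orbit G ω₀, ∀ ω' : X, g • ω' = ω' ↔ ω' = ω)
    (h4 : (univ.filter (fun g : G => g • ω₀ = ω₀ ∧ U g)).card = 2 * r) :
    2 * (2 + (univ.filter (fun ω : X => ω ∈ MulAction.orbit G ω₀)).card * (r - 2)) ∣
      Fintype.card G := by
  apply acl_div z hz1 hzz hzfix ω₀ _ (by omega)
  exact acl_sum U z ω₀ r hr hz1 hzfix hU1 hUz hUconj h1 h2 h4

end

theorem arith_k_one (r k h n b : ℕ) (hr : 5 ≤ r) (hk : 1 ≤ k) (hn : n = 1 + k * r)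
    (hb : b = 2 * r * h) (hh1 : 1 ≤ h) (hh : h ≤ r - 1)
    (hdiv : 2 * (2 + n * (r - 2)) ∣ n * b) : k = 1 := by
  obtain ⟨r', rfl⟩ : ∃ r', r = r' + 2 := ⟨r - 2, by omega⟩
  have hr' : 3 ≤ r' := by omega
  have e1 : r' + 2 - 2 = r' := by omega
  rw [e1] at hdiv
  set m := 1 + k * r' with hm
  have e2 : 2 * (2 + n * r') = (2 * (r' + 2)) * m := by
    rw [hn, hm]; ring
  have e3 : n * b = (2 * (r' + 2)) * (n * h) := by
    rw [hb]; ring
  rw [e2, e3] at hdiv
  have hd1 : m ∣ n * h := Nat.dvd_of_mul_dvd_mul_left (by omega) hdiv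
  have e4 : n * h = m * h + k * (2 * h) := by
    rw [hn, hm]; ring
  rw [e4] at hd1
  have hd2 : m ∣ k * (2 * h) := (Nat.dvd_add_right (Dvd.intro _ rfl)).mp hd1
  have hcop : Nat.Coprime m k := by
    rw [hm]
    have : Nat.Coprime (1 + k * r') k ↔ Nat.Coprime 1 k :=
      Nat.coprime_add_mul_left_left 1 k r'
    rw [this]
    exact Nat.coprime_one_left k
  have hd3 : m ∣ 2 * h := hcop.dvd_of_dvd_mul_left hd2
  have hle : m ≤ 2 * h := Nat.le_of_dvd (by omega) hd3
  by_contra hk1
  have hk2 : 2 ≤ k := by omega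
  rcases Nat.lt_or_ge k 3 with h3 | h3
  · have hk' : k = 2 := by omega
    have hcop2 : Nat.Coprime m 2 := by
      rw [hm, hk']
      have : Nat.Coprime (1 + 2 * r') 2 ↔ Nat.Coprime 1 2 :=
        Nat.coprime_add_mul_left_left 1 2 r'
      rw [this]
      exact Nat.coprime_one_left 2
    have hd4 : m ∣ h := hcop2.dvd_of_dvd_mul_left hd3
    have hle2 : m ≤ h := Nat.le_of_dvd (by omega) hd4
    rw [hm, hk'] at hle2
    omega
  · have : 3 * r' ≤ k * r' := Nat.mul_le_mul_right r' h3
    rw [hm] at hle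
    omega

end Cfsg.Agent.Lib.Helper1.Dickson
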