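import Mathlib
import Cfsg.Agent.Lib.helper14.ProjLine
import Cfsg.Agent.Lib.helper14.SL2Sylow

set_option autoImplicit false

namespace Cfsg.Agent.Lib.Helper1.Dickson

open scoped LinearAlgebra.Projectivization
open Cfsg.Agent.Lib.helper14

section
variable {K : Type*} [Field K]

local notation "SL2" => Matrix.SpecialLinearGroup (Fin 2) K
local notation "M2" => Matrix (Fin 2) (Fin 2) K
local notation "V2" => Fin 2 → K
local notation "P1" => Projectivization K (Fin 2 → K)

theorem sl_smul_vec (g : SL2) (v : V2) :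
    g • v = ![(g : M2) 0 0 * v 0 + (g : M2) 0 1 * v 1, (g : M2) 1 0 * v 0 + (g : M2) 1 1 * v 1] := by
  rw [Matrix.SpecialLinearGroup.smul_def, Matrix.smul_eq_mulVec]
  ext i; fin_cases i
  · simp [Matrix.mulVec, dotProduct, Fin.sum_univ_two]
  · simp [Matrix.mulVec, dotProduct, Fin.sum_univ_two]

theorem sl_smul_mk_eq_iff (g : SL2) (v w : V2) (hv : v ≠ 0) (hw : w ≠ 0) :
    g • Projectivization.mk K v hv = Projectivization.mk K w hw ↔
      ((g : M2) 0 0 * v 0 + (g : M2) 0 1 * v 1) * w 1 -
        ((g : M2) 1 0 * v 0 + (g : M2) 1 1 * v 1) * w 0 = 0 := by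
  rw [Projectivization.smul_mk, mk_eq_mk_iff_cross]
  unfold cross
  rw [sl_smul_vec]
  simp

theorem aff_ne (y : K) : (![y, 1] : V2) ≠ 0 := by
  rw [vec_ne_zero_iff]; right; simp

def affPt (y : K) : P1 := Projectivization.mk K ![y, 1] (aff_ne y)

theorem affPt_injective : Function.Injective (affPt (K := K)) := by
  intro y y' h
  unfold affPt at h
  rw [mk_eq_mk_iff_cross] at h
  simp only [cross, Matrix.cons_val_zero, Matrix.cons_val_one, mul_one, one_mul] at h
  linear_combination h

theorem affPt_ne_pt0 (y : K) : affPt y ≠ (pt0 : P1) := by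
  unfold affPt pt0
  rw [Ne, mk_eq_mk_iff_cross]
  simp [cross]

theorem pt_cases (x : P1) : x = pt0 ∨ ∃ y : K, x = affPt y := by
  induction x using Projectivization.ind with | h v hv => ?_
  by_cases h1 : v 1 = 0
  · left
    unfold pt0
    rw [mk_eq_mk_iff_cross]
    simp [cross, h1]
  · right
    refine ⟨v 0 / v 1, ?_⟩
    unfold affPt
    rw [mk_eq_mk_iff_cross]
    simp only [cross, Matrix.cons_val_zero, Matrix.cons_val_one, mul_one]
    field_simp
    ring

theorem sl_smul_pt0_eq_iff (g : SL2) : g • (pt0 : P1) = pt0 ↔ (g : M2) 1 0 = 0 := by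
  unfold pt0
  rw [sl_smul_mk_eq_iff]
  simp

theorem sl_smul_pt0 (g : SL2) (hc : (g : M2) 1 0 ≠ 0) :
    g • (pt0 : P1) = affPt ((g : M2) 0 0 / (g : M2) 1 0) := by
  unfold pt0 affPt
  rw [sl_smul_mk_eq_iff]
  simp only [Matrix.cons_val_zero, Matrix.cons_val_one, mul_one, mul_zero, add_zero]
  field_simp
  ring

theorem uS_smul_affPt (s y : K) : (uS s : SL2) • affPt y = affPt (y + s) := by
  unfold affPt
  rw [sl_smul_mk_eq_iff]
  simp only [uS_coe, Matrix.of_apply, Matrix.cons_val_zero, Matrix.cons_val_one, mul_one]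
  simp

theorem neg_smul_pt (g : SL2) (x : P1) : (-g) • x = g • x := by
  induction x using Projectivization.ind with | h v hv => ?_
  rw [Projectivization.smul_mk, Projectivization.smul_mk, mk_eq_mk_iff_cross]
  rw [sl_smul_vec, sl_smul_vec]
  simp only [cross, Matrix.SpecialLinearGroup.coe_neg, Matrix.neg_apply, Matrix.cons_val_zero,
    Matrix.cons_val_one]
  ring

theorem fix_pair (h2 : (2 : K) ≠ 0) (g : SL2)
    (hns : (g : M2) 1 0 ≠ 0 ∨ (g : M2) 0 1 ≠ 0 ∨ (g : M2) 0 0 ≠ (g : M2) 1 1) (δ : K)
    (hδ : δ * δ = ((g : M2) 0 0 + (g : M2) 1 1) ^ 2 - 4) :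
    ∃ P₁ P₂ : P1, (P₁ = P₂ ↔ δ = 0) ∧ ∀ x : P1, g • x = x ↔ x = P₁ ∨ x = P₂ := by
  have hdet := sl2_det g
  obtain ⟨a, ha⟩ : ∃ a, (g : M2) 0 0 = a := ⟨_, rfl⟩
  obtain ⟨b, hb⟩ : ∃ b, (g : M2) 0 1 = b := ⟨_, rfl⟩
  obtain ⟨c, hc⟩ : ∃ c, (g : M2) 1 0 = c := ⟨_, rfl⟩
  obtain ⟨d, hd⟩ : ∃ d, (g : M2) 1 1 = d := ⟨_, rfl⟩
  rw [ha, hb, hc, hd] at hdet hns
  rw [ha, hd] at hδ
  have h4 : (4 : K) ≠ 0 := by
    have : (4 : K) = 2 * 2 := by norm_num
    rw [this]
    exact mul_ne_zero h2 h2
  by_cases hc0 : c = 0
  · by_cases hb0 : b = 0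
    · have had : a ≠ d := by
        rcases hns with h | h | h
        · exact absurd hc0 h
        · exact absurd hb0 h
        · exact h
      subst hc0 hb0
      have hδ2 : δ * δ = (a - d) * (a - d) := by linear_combination hδ + 4 * hdet
      have hδ0 : δ ≠ 0 := by
        intro h0
        rw [h0, mul_zero] at hδ2
        have := mul_self_eq_zero.mp hδ2.symm
        exact had (sub_eq_zero.mp this)
      refine ⟨pt0, pt1, ?_, ?_⟩
      · constructor
        · intro h
          exfalso
          unfold pt0 pt1 at h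
          rw [mk_eq_mk_iff_cross] at h
          simp [cross] at h
        · intro h
          exact absurd h hδ0
      · intro x
        induction x using Projectivization.ind with | h v hv => ?_
        unfold pt0 pt1
        rw [sl_smul_mk_eq_iff, mk_eq_mk_iff_cross, mk_eq_mk_iff_cross, ha, hb, hc, hd]
        simp only [cross, Matrix.cons_val_zero, Matrix.cons_val_one, mul_one, mul_zero, zero_mul,
          add_zero, zero_add, zero_sub, sub_zero, neg_eq_zero]
        have e : a * v 0 * v 1 - d * v 1 * v 0 = (a - d) * (v 0 * v 1) := by ring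
        rw [e, mul_eq_zero, mul_eq_zero]
        constructor
        · rintro (h | h | h)
          · exact absurd (sub_eq_zero.mp h) had
          · right; exact h
          · left; exact h
        · rintro (h | h)
          · right; right; exact h
          · right; left; exact h
    · have hw1 : (![2 * b, d - a + δ] : V2) ≠ 0 := by
        rw [vec_ne_zero_iff]; left
        simpa using mul_ne_zero h2 hb0
      have hw2 : (![2 * b, d - a - δ] : V2) ≠ 0 := by
        rw [vec_ne_zero_iff]; left
        simpa using mul_ne_zero h2 hb0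
      refine ⟨Projectivization.mk K _ hw1, Projectivization.mk K _ hw2, ?_, ?_⟩
      · rw [mk_eq_mk_iff_cross]
        simp only [cross, Matrix.cons_val_zero, Matrix.cons_val_one]
        constructor
        · intro h
          have : 4 * b * δ = 0 := by linear_combination -h
          rcases mul_eq_zero.mp this with h' | h'
          · exact absurd h' (mul_ne_zero h4 hb0)
          · exact h'
        · intro h
          rw [h]; ring
      · intro x
        induction x using Projectivization.ind with | h v hv => ?_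
        rw [sl_smul_mk_eq_iff, mk_eq_mk_iff_cross, mk_eq_mk_iff_cross, ha, hb, hc, hd]
        simp only [cross, Matrix.cons_val_zero, Matrix.cons_val_one]
        have key : (v 0 * (d - a + δ) - v 1 * (2 * b)) * (v 0 * (d - a - δ) - v 1 * (2 * b)) =
            4 * b * ((a * v 0 + b * v 1) * v 1 - (c * v 0 + d * v 1) * v 0) := by
          linear_combination (-(v 0 ^ 2)) * hδ + (-(4 * v 0 ^ 2)) * hdet
        constructor
        · intro h
          rw [h, mul_zero] at key
          exact mul_eq_zero.mp key
        · intro h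
          have h0 : (v 0 * (d - a + δ) - v 1 * (2 * b)) * (v 0 * (d - a - δ) - v 1 * (2 * b)) = 0 :=
            mul_eq_zero.mpr h
          rw [key] at h0
          rcases mul_eq_zero.mp h0 with h' | h'
          · exact absurd h' (mul_ne_zero h4 hb0)
          · exact h'
  · have hw1 : (![a - d + δ, 2 * c] : V2) ≠ 0 := by
      rw [vec_ne_zero_iff]; right
      simpa using mul_ne_zero h2 hc0
    have hw2 : (![a - d - δ, 2 * c] : V2) ≠ 0 := by
      rw [vec_ne_zero_iff]; right
      simpa using mul_ne_zero h2 hc0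
    refine ⟨Projectivization.mk K _ hw1, Projectivization.mk K _ hw2, ?_, ?_⟩
    · rw [mk_eq_mk_iff_cross]
      simp only [cross, Matrix.cons_val_zero, Matrix.cons_val_one]
      constructor
      · intro h
        have : 4 * c * δ = 0 := by linear_combination h
        rcases mul_eq_zero.mp this with h' | h'
        · exact absurd h' (mul_ne_zero h4 hc0)
        · exact h'
      · intro h
        rw [h]; ring
    · intro x
      induction x using Projectivization.ind with | h v hv => ?_
      rw [sl_smul_mk_eq_iff, mk_eq_mk_iff_cross, mk_eq_mk_iff_cross, ha, hb, hc, hd]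
      simp only [cross, Matrix.cons_val_zero, Matrix.cons_val_one]
      have key : (v 0 * (2 * c) - v 1 * (a - d + δ)) * (v 0 * (2 * c) - v 1 * (a - d - δ)) =
          -(4 * c) * ((a * v 0 + b * v 1) * v 1 - (c * v 0 + d * v 1) * v 0) := by
        linear_combination (-(v 1 ^ 2)) * hδ + (-(4 * v 1 ^ 2)) * hdet
      constructor
      · intro h
        rw [h, mul_zero] at key
        exact mul_eq_zero.mp key
      · intro h
        have h0 : (v 0 * (2 * c) - v 1 * (a - d + δ)) * (v 0 * (2 * c) - v 1 * (a - d - δ)) = 0 :=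
          mul_eq_zero.mpr h
        rw [key] at h0
        rcases mul_eq_zero.mp h0 with h' | h'
        · exact absurd h' (neg_ne_zero.mpr (mul_ne_zero h4 hc0))
        · exact h'

end

end Cfsg.Agent.Lib.Helper1.Dickson
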