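import Mathlib
import Cfsg.Agent.Lib.Helper1.Dickson.Fix

set_option autoImplicit false

namespace Cfsg.Agent.Lib.Helper1.Dickson

open scoped LinearAlgebra.Projectivization
open Cfsg.Agent.Lib.helper14 Finset

section
variable {K : Type*} [Field K]

local notation "SL2" => Matrix.SpecialLinearGroup (Fin 2) K
local notation "M2" => Matrix (Fin 2) (Fin 2) K

theorem sl2_inv_coe (g : SL2) :
    ((g⁻¹ : SL2) : M2) = !![(g : M2) 1 1, -(g : M2) 0 1; -(g : M2) 1 0, (g : M2) 0 0] := by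
  rw [Matrix.SpecialLinearGroup.coe_inv, Matrix.adjugate_fin_two]

theorem sl2_neg_one_ne (h2 : (2 : K) ≠ 0) : (-1 : SL2) ≠ 1 := by
  intro h
  have := congrArg (fun g : SL2 => (g : M2) 0 0) h
  simp only [Matrix.SpecialLinearGroup.coe_neg, Matrix.SpecialLinearGroup.coe_one,
    Matrix.neg_apply, Matrix.one_apply_eq] at this
  apply h2
  linear_combination -this

theorem sl2_neg_eq (g : SL2) : -g = (-1 : SL2) * g := by
  apply Subtype.ext
  simp

theorem sl2_ext (g h : SL2) (h00 : (g : M2) 0 0 = (h : M2) 0 0) (h01 : (g : M2) 0 1 = (h : M2) 0 1)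
    (h10 : (g : M2) 1 0 = (h : M2) 1 0) (h11 : (g : M2) 1 1 = (h : M2) 1 1) : g = h := by
  apply Subtype.ext
  ext i j
  fin_cases i <;> fin_cases j
  · exact h00
  · exact h01
  · exact h10
  · exact h11

theorem pm_unip (g : SL2) (hc : (g : M2) 1 0 = 0)
    (ht : ((g : M2) 0 0 + (g : M2) 1 1) ^ 2 = 4) :
    g = uS ((g : M2) 0 1) ∨ g = -uS (-(g : M2) 0 1) := by
  have hdet := sl2_det g
  rw [hc, mul_zero, sub_zero] at hdet
  have had : ((g : M2) 0 0 - (g : M2) 1 1) * ((g : M2) 0 0 - (g : M2) 1 1) = 0 := by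
    linear_combination ht - 4 * hdet
  have had' : (g : M2) 0 0 = (g : M2) 1 1 := sub_eq_zero.mp (mul_self_eq_zero.mp had)
  have hsq : ((g : M2) 0 0 - 1) * ((g : M2) 0 0 + 1) = 0 := by
    rw [← had'] at hdet
    linear_combination hdet
  rcases mul_eq_zero.mp hsq with h | h
  · left
    have ha : (g : M2) 0 0 = 1 := sub_eq_zero.mp h
    apply sl2_ext
    · rw [ha, uS_coe]; simp
    · rw [uS_coe]; simp
    · rw [hc, uS_coe]; simp
    · rw [← had', ha, uS_coe]; simp
  · right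
    have ha : (g : M2) 0 0 = -1 := by linear_combination h
    apply sl2_ext
    · rw [ha, Matrix.SpecialLinearGroup.coe_neg, uS_coe]; simp
    · rw [Matrix.SpecialLinearGroup.coe_neg, uS_coe]; simp
    · rw [hc, Matrix.SpecialLinearGroup.coe_neg, uS_coe]; simp
    · rw [← had', ha, Matrix.SpecialLinearGroup.coe_neg, uS_coe]; simp

theorem pm_diag (g : SL2) (hc : (g : M2) 1 0 = 0)
    (ht : ((g : M2) 0 0 + (g : M2) 1 1) ^ 2 = 4) :
    (g : M2) 0 0 * (g : M2) 0 0 = 1 ∧ (g : M2) 1 1 = (g : M2) 0 0 := by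
  have hdet := sl2_det g
  rw [hc, mul_zero, sub_zero] at hdet
  have had : ((g : M2) 0 0 - (g : M2) 1 1) * ((g : M2) 0 0 - (g : M2) 1 1) = 0 := by
    linear_combination ht - 4 * hdet
  have had' : (g : M2) 0 0 = (g : M2) 1 1 := sub_eq_zero.mp (mul_self_eq_zero.mp had)
  refine ⟨?_, had'.symm⟩
  rw [← had'] at hdet
  exact hdet

theorem sl2_mul_apply (g h : SL2) (i j : Fin 2) :
    ((g * h : SL2) : M2) i j = (g : M2) i 0 * (h : M2) 0 j + (g : M2) i 1 * (h : M2) 1 j := by
  rw [sl2_coe_mul, Matrix.mul_apply, Fin.sum_univ_two]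

variable [Fintype K] [DecidableEq K]

open Classical in
theorem card_pm_unip (h2 : (2 : K) ≠ 0) (Γ : Subgroup SL2) (hneg : (-1 : SL2) ∈ Γ) :
    (univ.filter (fun g : SL2 => g ∈ Γ ∧ (g : M2) 1 0 = 0 ∧
      ((g : M2) 0 0 + (g : M2) 1 1) ^ 2 = 4)).card =
      2 * (univ.filter (fun s : K => uS s ∈ Γ)).card := by
  set S := univ.filter (fun s : K => uS s ∈ Γ) with hS
  have hinj1 : Function.Injective (fun s : K => (uS s : SL2)) := uS_injective
  have hinj2 : Function.Injective (fun s : K => (-uS s : SL2)) := by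
    intro s s' h
    exact uS_injective (neg_injective h)
  have hW : univ.filter (fun g : SL2 => g ∈ Γ ∧ (g : M2) 1 0 = 0 ∧
      ((g : M2) 0 0 + (g : M2) 1 1) ^ 2 = 4) =
      S.image (fun s : K => (uS s : SL2)) ∪ S.image (fun s : K => (-uS s : SL2)) := by
    ext g
    simp only [mem_filter, mem_univ, true_and, mem_union, mem_image, hS]
    constructor
    · rintro ⟨hg, hc, ht⟩
      rcases pm_unip g hc ht with h | h
      · left
        exact ⟨_, by rw [← h]; exact hg, h.symm⟩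
      · right
        refine ⟨_, ?_, h.symm⟩
        have : uS (-(g : M2) 0 1) = (-1 : SL2) * g := by
          rw [← sl2_neg_eq]
          nth_rewrite 2 [h]
          rw [neg_neg]
        rw [this]
        exact Γ.mul_mem hneg hg
    · rintro (⟨s, hs, rfl⟩ | ⟨s, hs, rfl⟩)
      · refine ⟨hs, ?_, ?_⟩
        · rw [uS_coe]; simp
        · rw [uS_coe]; simp; norm_num
      · refine ⟨?_, ?_, ?_⟩
        · rw [sl2_neg_eq]
          exact Γ.mul_mem hneg hs
        · rw [Matrix.SpecialLinearGroup.coe_neg, uS_coe]; simp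
        · rw [Matrix.SpecialLinearGroup.coe_neg, uS_coe]; simp; norm_num
  have hdisj : Disjoint (S.image (fun s : K => (uS s : SL2)))
      (S.image (fun s : K => (-uS s : SL2))) := by
    rw [Finset.disjoint_left]
    intro g h1 h2'
    rw [mem_image] at h1 h2'
    obtain ⟨s, -, rfl⟩ := h1
    obtain ⟨s', -, h⟩ := h2'
    have := congrArg (fun g : SL2 => (g : M2) 0 0) h
    simp only [Matrix.SpecialLinearGroup.coe_neg, uS_coe, Matrix.neg_apply, Matrix.of_apply,
      Matrix.cons_val_zero] at this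
    apply h2
    linear_combination -this
  rw [hW, Finset.card_union_of_disjoint hdisj, Finset.card_image_of_injective _ hinj1,
    Finset.card_image_of_injective _ hinj2]
  ring

open Classical in
theorem card_borel (h2 : (2 : K) ≠ 0) (Γ : Subgroup SL2) (hneg : (-1 : SL2) ∈ Γ)
    (s₁ : K) (hs₁ : uS s₁ ∈ Γ) (hs₁0 : s₁ ≠ 0) :
    ∃ h : ℕ, 1 ≤ h ∧ h ≤ (univ.filter (fun s : K => uS s ∈ Γ)).card - 1 ∧
      (univ.filter (fun g : SL2 => g ∈ Γ ∧ (g : M2) 1 0 = 0)).card =
        2 * (univ.filter (fun s : K => uS s ∈ Γ)).card * h := by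
  set S := univ.filter (fun s : K => uS s ∈ Γ) with hS
  set B := univ.filter (fun g : SL2 => g ∈ Γ ∧ (g : M2) 1 0 = 0) with hB
  set W := univ.filter (fun g : SL2 => g ∈ Γ ∧ (g : M2) 1 0 = 0 ∧
      ((g : M2) 0 0 + (g : M2) 1 1) ^ 2 = 4) with hW
  have hWcard : W.card = 2 * S.card := card_pm_unip h2 Γ hneg
  set φ : SL2 → K := fun g => (g : M2) 0 0 * (g : M2) 0 0 with hφ
  have hfib : ∀ g₀ ∈ B, (B.filter (fun g => φ g = φ g₀)).card = W.card := by
    intro g₀ hg₀
    rw [hB, mem_filter] at hg₀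
    obtain ⟨-, hg₀Γ, hg₀c⟩ := hg₀
    have hdet₀ := sl2_det g₀
    rw [hg₀c, mul_zero, sub_zero] at hdet₀
    apply Finset.card_nbij' (fun g => g * g₀⁻¹) (fun w => w * g₀)
    · intro g hg
      simp only [coe_filter, mem_filter, mem_univ, true_and, Set.mem_ofPred_eq, hB, hW, hφ]
        at hg ⊢
      obtain ⟨⟨hgΓ, hgc⟩, hgφ⟩ := hg
      have hdet := sl2_det g
      rw [hgc, mul_zero, sub_zero] at hdet
      refine ⟨Γ.mul_mem hgΓ (Γ.inv_mem hg₀Γ), ?_, ?_⟩
      · rw [sl2_mul_apply, sl2_inv_coe, hgc, hg₀c]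
        simp
      · rw [sl2_mul_apply, sl2_mul_apply, sl2_inv_coe, hgc, hg₀c]
        simp only [Matrix.of_apply, Matrix.cons_val_zero, Matrix.cons_val_one, neg_zero,
          mul_zero, add_zero, zero_mul, zero_add]
        linear_combination ((g₀ : M2) 1 1 * (g₀ : M2) 1 1 - (g : M2) 1 1 * (g : M2) 1 1) * hgφ +
          ((g₀ : M2) 0 0 * (g₀ : M2) 1 1 + 1) * hdet₀ +
          ((g : M2) 0 0 * (g : M2) 1 1 + 1) * hdet +
          2 * ((g₀ : M2) 0 0 * (g₀ : M2) 1 1) * hdet + 2 * hdet₀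
    · intro w hw
      simp only [coe_filter, mem_filter, mem_univ, true_and, Set.mem_ofPred_eq, hB, hW, hφ]
        at hw ⊢
      obtain ⟨hwΓ, hwc, hwt⟩ := hw
      obtain ⟨hw1, hw2⟩ := pm_diag w hwc hwt
      refine ⟨⟨Γ.mul_mem hwΓ hg₀Γ, ?_⟩, ?_⟩
      · rw [sl2_mul_apply, hwc, hg₀c]
        simp
      · rw [sl2_mul_apply, hg₀c]
        simp only [mul_zero, add_zero]
        linear_combination ((g₀ : M2) 0 0 * (g₀ : M2) 0 0) * hw1
    · intro g _
      simp
    · intro w _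
      simp
  have hcard : B.card = ∑ y ∈ B.image φ, (B.filter (fun g => φ g = y)).card :=
    Finset.card_eq_sum_card_image φ B
  have hconst : ∀ y ∈ B.image φ, (B.filter (fun g => φ g = y)).card = W.card := by
    intro y hy
    rw [mem_image] at hy
    obtain ⟨g₀, hg₀, rfl⟩ := hy
    exact hfib g₀ hg₀
  rw [Finset.sum_congr rfl hconst, Finset.sum_const, smul_eq_mul, hWcard] at hcard
  refine ⟨(B.image φ).card, ?_, ?_, ?_⟩
  · rw [Nat.succ_le_iff, Finset.card_pos]
    refine ⟨φ 1, ?_⟩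
    rw [mem_image]
    refine ⟨1, ?_, rfl⟩
    rw [hB, mem_filter]
    exact ⟨mem_univ _, Γ.one_mem, by simp⟩
  · have h0S : (0 : K) ∈ S := by
      rw [hS, mem_filter]
      refine ⟨mem_univ _, ?_⟩
      rw [uS_zero]
      exact Γ.one_mem
    rw [← Finset.card_erase_of_mem h0S]
    apply Finset.card_le_card_of_injOn (fun y => y * s₁)
    · intro y hy
      rw [Finset.mem_coe, mem_image] at hy
      obtain ⟨g, hg, rfl⟩ := hy
      rw [hB, mem_filter] at hg
      obtain ⟨-, hgΓ, hgc⟩ := hg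
      have hdet := sl2_det g
      rw [hgc, mul_zero, sub_zero] at hdet
      have ha : (g : M2) 0 0 ≠ 0 := by
        intro h0
        rw [h0, zero_mul] at hdet
        exact zero_ne_one hdet
      have hd : (g : M2) 1 1 ≠ 0 := by
        intro h0
        rw [h0, mul_zero] at hdet
        exact zero_ne_one hdet
      rw [Finset.mem_coe, Finset.mem_erase]
      refine ⟨mul_ne_zero (mul_ne_zero ha ha) hs₁0, ?_⟩
      rw [hS, mem_filter]
      refine ⟨mem_univ _, ?_⟩
      have hconj := conj_uS_of_mem_BS g ((mem_BS g).mpr hgc) s₁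
      have e : (g : M2) 0 0 * s₁ / (g : M2) 1 1 = φ g * s₁ := by
        show _ = (g : M2) 0 0 * (g : M2) 0 0 * s₁
        rw [div_eq_iff hd]
        linear_combination (-((g : M2) 0 0 * s₁)) * hdet
      rw [e] at hconj
      rw [← hconj]
      exact Γ.mul_mem (Γ.mul_mem hgΓ hs₁) (Γ.inv_mem hgΓ)
    · intro y _ y' _ h
      exact mul_right_cancel₀ hs₁0 h
  · rw [hcard]
    ring

end

end Cfsg.Agent.Lib.Helper1.Dickson
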