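import Mathlib
import Cfsg.Agent.Lib.Helper1.Dickson.Borel

set_option autoImplicit false

namespace Cfsg.Agent.Lib.Helper1.Dickson

open scoped LinearAlgebra.Projectivization
open Cfsg.Agent.Lib.helper14 Finset

section
variable {K : Type*} [Field K]

local notation "SL2" => Matrix.SpecialLinearGroup (Fin 2) K
local notation "M2" => Matrix (Fin 2) (Fin 2) K
local notation "P1" => Projectivization K (Fin 2 → K)

def unipAdd (Γ : Subgroup SL2) : AddSubgroup K where
  carrier := {s | uS s ∈ Γ}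
  zero_mem' := by
    show uS (0 : K) ∈ Γ
    rw [uS_zero]
    exact Γ.one_mem
  add_mem' := by
    intro a b ha hb
    show uS (a + b) ∈ Γ
    rw [← uS_mul]
    exact Γ.mul_mem ha hb
  neg_mem' := by
    intro a ha
    show uS (-a) ∈ Γ
    have : uS (-a) = (uS a : SL2)⁻¹ := by
      rw [eq_inv_iff_mul_eq_one, uS_mul, neg_add_cancel, uS_zero]
    rw [this]
    exact Γ.inv_mem ha

theorem mem_unipAdd (Γ : Subgroup SL2) (s : K) : s ∈ unipAdd Γ ↔ uS s ∈ Γ := Iff.rfl

variable [Fintype K] [DecidableEq K]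

open Classical in
theorem orbit_card (Γ : Subgroup SL2) [Fintype P1] :
    ∃ k : ℕ, (univ.filter (fun ω : P1 => ω ∈ MulAction.orbit Γ (pt0 : P1))).card =
        1 + k * (univ.filter (fun s : K => uS s ∈ Γ)).card ∧
      ((∃ h₀ ∈ Γ, (h₀ : M2) 1 0 ≠ 0) → 1 ≤ k) ∧
      (k = 1 → ∀ h ∈ Γ, ∀ h' ∈ Γ, (h : M2) 1 0 ≠ 0 → (h' : M2) 1 0 ≠ 0 →
        uS ((h : M2) 0 0 / (h : M2) 1 0 - (h' : M2) 0 0 / (h' : M2) 1 0) ∈ Γ) := by
  set S := univ.filter (fun s : K => uS s ∈ Γ) with hS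
  set P := univ.filter (fun ω : P1 => ω ∈ MulAction.orbit Γ (pt0 : P1)) with hP
  set Pa := univ.filter (fun y : K => affPt y ∈ MulAction.orbit Γ (pt0 : P1)) with hPa
  have hmemPa : ∀ h ∈ Γ, (h : M2) 1 0 ≠ 0 → (h : M2) 0 0 / (h : M2) 1 0 ∈ Pa := by
    intro h hh hc
    rw [hPa, mem_filter]
    refine ⟨mem_univ _, ?_⟩
    rw [← sl_smul_pt0 h hc]
    exact ⟨⟨h, hh⟩, rfl⟩
  have hPeq : P = insert (pt0 : P1) (Pa.image affPt) := by
    ext ω
    rw [hP, mem_filter, mem_insert, mem_image]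
    constructor
    · rintro ⟨-, hω⟩
      rcases pt_cases ω with h | ⟨y, rfl⟩
      · left; exact h
      · right
        refine ⟨y, ?_, rfl⟩
        rw [hPa, mem_filter]
        exact ⟨mem_univ _, hω⟩
    · rintro (h | ⟨y, hy, rfl⟩)
      · rw [h]
        exact ⟨mem_univ _, MulAction.mem_orbit_self _⟩
      · rw [hPa, mem_filter] at hy
        exact ⟨mem_univ _, hy.2⟩
  have hnotin : (pt0 : P1) ∉ Pa.image affPt := by
    intro h
    rw [mem_image] at h
    obtain ⟨y, -, hy⟩ := h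
    exact affPt_ne_pt0 y hy
  have hPcard : P.card = 1 + Pa.card := by
    rw [hPeq, Finset.card_insert_of_notMem hnotin, Finset.card_image_of_injective _ affPt_injective]
    ring
  have htrans : ∀ y ∈ Pa, ∀ s ∈ S, y + s ∈ Pa := by
    intro y hy s hs
    rw [hPa, mem_filter] at hy ⊢
    rw [hS, mem_filter] at hs
    refine ⟨mem_univ _, ?_⟩
    rw [← uS_smul_affPt]
    have := MulAction.mem_orbit_of_mem_orbit (⟨uS s, hs.2⟩ : Γ) hy.2
    exact this
  set π : K → K ⧸ unipAdd Γ := fun y => (QuotientAddGroup.mk y : K ⧸ unipAdd Γ) with hπ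
  have hπeq : ∀ y y' : K, π y = π y' ↔ uS (-y + y') ∈ Γ := by
    intro y y'
    rw [hπ]
    show (QuotientAddGroup.mk y : K ⧸ unipAdd Γ) = QuotientAddGroup.mk y' ↔ _
    rw [QuotientAddGroup.eq]
    rfl
  have hfib : ∀ y₀ ∈ Pa, (Pa.filter (fun y => π y = π y₀)).card = S.card := by
    intro y₀ hy₀
    have : Pa.filter (fun y => π y = π y₀) = S.image (fun s => y₀ + s) := by
      ext y
      rw [mem_filter, mem_image]
      constructor
      · rintro ⟨-, hy⟩
        refine ⟨-y₀ + y, ?_, by ring⟩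
        rw [hS, mem_filter]
        exact ⟨mem_univ _, (hπeq y₀ y).mp hy.symm⟩
      · rintro ⟨s, hs, rfl⟩
        refine ⟨htrans y₀ hy₀ s hs, ?_⟩
        rw [eq_comm, hπeq]
        rw [hS, mem_filter] at hs
        have : -y₀ + (y₀ + s) = s := by ring
        rw [this]
        exact hs.2
    rw [this, Finset.card_image_of_injective _ (add_right_injective y₀)]
  have hcard : Pa.card = ∑ c ∈ Pa.image π, (Pa.filter (fun y => π y = c)).card :=
    Finset.card_eq_sum_card_image π Pa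
  have hconst : ∀ c ∈ Pa.image π, (Pa.filter (fun y => π y = c)).card = S.card := by
    intro c hc
    rw [mem_image] at hc
    obtain ⟨y₀, hy₀, rfl⟩ := hc
    exact hfib y₀ hy₀
  rw [Finset.sum_congr rfl hconst, Finset.sum_const, smul_eq_mul] at hcard
  refine ⟨(Pa.image π).card, ?_, ?_, ?_⟩
  · rw [hPcard, hcard]
  · rintro ⟨h₀, hh₀, hc⟩
    rw [Nat.succ_le_iff, Finset.card_pos]
    exact ⟨_, mem_image_of_mem π (hmemPa h₀ hh₀ hc)⟩
  · intro hk h hh h' hh' hc hc'
    rw [Finset.card_eq_one] at hk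
    obtain ⟨c, hc0⟩ := hk
    have h1 := mem_image_of_mem π (hmemPa h hh hc)
    have h2 := mem_image_of_mem π (hmemPa h' hh' hc')
    rw [hc0, mem_singleton] at h1 h2
    have := (hπeq _ _).mp (h2.trans h1.symm)
    have e : -((h' : M2) 0 0 / (h' : M2) 1 0) + (h : M2) 0 0 / (h : M2) 1 0 =
        (h : M2) 0 0 / (h : M2) 1 0 - (h' : M2) 0 0 / (h' : M2) 1 0 := by ring
    rwa [e] at this

end

end Cfsg.Agent.Lib.Helper1.Dickson
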