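import Mathlib
import Cfsg.Agent.Lib.Helper1.Dickson.Orb
import Cfsg.Agent.Lib.Helper1.Dickson.Count

set_option autoImplicit false

namespace Cfsg.Agent.Lib.Helper1.Dickson

open scoped LinearAlgebra.Projectivization
open Cfsg.Agent.Lib.helper14 Finset

section
variable {K : Type*} [Field K]

local notation "SL2" => Matrix.SpecialLinearGroup (Fin 2) K
local notation "M2" => Matrix (Fin 2) (Fin 2) K
local notation "P1" => Projectivization K (Fin 2 → K)

theorem tr_conj (y g : SL2) :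
    ((y * g * y⁻¹ : SL2) : M2) 0 0 + ((y * g * y⁻¹ : SL2) : M2) 1 1 =
      (g : M2) 0 0 + (g : M2) 1 1 := by
  rw [← Matrix.trace_fin_two, ← Matrix.trace_fin_two, sl2_coe_mul, sl2_coe_mul,
    Matrix.trace_mul_cycle, ← sl2_coe_mul, inv_mul_cancel, sl2_coe_one, one_mul]

theorem card_eq_of_val {A : Type*} [Group A] (Γ : Subgroup A) (s : Finset Γ) (t : Finset A)
    (h : ∀ g : A, g ∈ t ↔ ∃ hg : g ∈ Γ, (⟨g, hg⟩ : Γ) ∈ s) : s.card = t.card := by
  apply Finset.card_bij (fun g _ => g.1)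
  · intro g hg
    rw [h]
    exact ⟨g.2, hg⟩
  · intro g _ g' _ h'
    exact Subtype.ext h'
  · intro g hg
    obtain ⟨hg1, hg2⟩ := (h g).mp hg
    exact ⟨⟨g, hg1⟩, hg2, rfl⟩

variable [Fintype K] [DecidableEq K]

open Classical in
theorem dickson_core (h2 : (2 : K) ≠ 0) (Γ : Subgroup SL2)
    (hSq : ∀ g ∈ Γ, ∃ δ : K, δ * δ = ((g : M2) 0 0 + (g : M2) 1 1) ^ 2 - 4)
    (hneg : (-1 : SL2) ∈ Γ)
    (hA1 : ∀ x ∈ Γ, (x : M2) 0 0 + (x : M2) 1 1 = 2 → ∃ y ∈ Γ, y⁻¹ * x * y ∈ US K)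
    (hA2 : ∃ h₀ ∈ Γ, (h₀ : M2) 1 0 ≠ 0)
    (hr : 5 ≤ (univ.filter (fun s : K => uS s ∈ Γ)).card) :
    ∀ h ∈ Γ, ∀ h' ∈ Γ, (h : M2) 1 0 ≠ 0 → (h' : M2) 1 0 ≠ 0 →
      uS ((h : M2) 0 0 / (h : M2) 1 0 - (h' : M2) 0 0 / (h' : M2) 1 0) ∈ Γ := by
  haveI : Fintype P1 := Fintype.ofFinite _
  obtain ⟨k, hk1, hk2, hk3⟩ := orbit_card Γ
  apply hk3
  set S := univ.filter (fun s : K => uS s ∈ Γ) with hS
  set r := S.card with hrdef
  obtain ⟨s₁, hs₁S, hs₁0⟩ : ∃ s₁ ∈ S, s₁ ≠ 0 :=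
    Finset.exists_mem_ne (by omega) 0
  have hs₁ : uS s₁ ∈ Γ := by
    rw [hS, mem_filter] at hs₁S
    exact hs₁S.2
  obtain ⟨h, hh1, hh2, hB⟩ := card_borel h2 Γ hneg s₁ hs₁ hs₁0
  set U : Γ → Prop := fun g => (((g : SL2) : M2) 0 0 + ((g : SL2) : M2) 1 1) ^ 2 = 4 with hU
  set z : Γ := ⟨-1, hneg⟩ with hz
  have hz1 : z ≠ 1 := by
    intro h
    exact sl2_neg_one_ne h2 (congrArg Subtype.val h)
  have hzz : z * z = 1 := by
    apply Subtype.ext
    show (-1 : SL2) * (-1) = 1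
    rw [neg_mul_neg, one_mul]
  have hzfix : ∀ ω : P1, z • ω = ω := by
    intro ω
    rw [MulAction.subgroup_smul_def]
    show (-1 : SL2) • ω = ω
    rw [neg_smul_pt, one_smul]
  have hU1 : U 1 := by
    show (((1 : SL2) : M2) 0 0 + ((1 : SL2) : M2) 1 1) ^ 2 = 4
    rw [sl2_coe_one]
    simp
    norm_num
  have hUz : U z := by
    show (((-1 : SL2) : M2) 0 0 + ((-1 : SL2) : M2) 1 1) ^ 2 = 4
    rw [Matrix.SpecialLinearGroup.coe_neg, sl2_coe_one]
    simp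
    norm_num
  have hUconj : ∀ y g : Γ, U (y * g * y⁻¹) ↔ U g := by
    intro y g
    show ((((y * g * y⁻¹ : Γ) : SL2) : M2) 0 0 + (((y * g * y⁻¹ : Γ) : SL2) : M2) 1 1) ^ 2 = 4 ↔ _
    have : ((y * g * y⁻¹ : Γ) : SL2) = (y : SL2) * (g : SL2) * (y : SL2)⁻¹ := rfl
    rw [this, tr_conj]
  have hns_of : ∀ g : SL2, ¬ ((g : M2) 1 0 ≠ 0 ∨ (g : M2) 0 1 ≠ 0 ∨ (g : M2) 0 0 ≠ (g : M2) 1 1) →
      g = 1 ∨ g = -1 := by
    intro g hg
    push Not at hg
    exact scalar_sl2 g ⟨hg.2.1, hg.1, hg.2.2⟩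
  have h1 : ∀ g : Γ, ¬ U g → (univ.filter (fun ω : P1 => g • ω = ω)).card = 2 := by
    intro g hg
    obtain ⟨δ, hδ⟩ := hSq g g.2
    have hδ0 : δ ≠ 0 := by
      intro h0
      apply hg
      rw [h0, mul_zero] at hδ
      show (((g : SL2) : M2) 0 0 + ((g : SL2) : M2) 1 1) ^ 2 = 4
      linear_combination -hδ
    have hns : ((g : SL2) : M2) 1 0 ≠ 0 ∨ ((g : SL2) : M2) 0 1 ≠ 0 ∨
        ((g : SL2) : M2) 0 0 ≠ ((g : SL2) : M2) 1 1 := by
      by_contra hcon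
      apply hg
      rcases hns_of _ hcon with h | h
      · have : g = 1 := Subtype.ext h
        rw [this]; exact hU1
      · have : g = z := Subtype.ext h
        rw [this]; exact hUz
    obtain ⟨P₁, P₂, hP, hfix⟩ := fix_pair h2 (g : SL2) hns δ hδ
    have hne : P₁ ≠ P₂ := fun h => hδ0 (hP.mp h)
    have : univ.filter (fun ω : P1 => g • ω = ω) = {P₁, P₂} := by
      ext ω
      rw [mem_filter, mem_insert, mem_singleton, MulAction.subgroup_smul_def]
      simp only [mem_univ, true_and]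
      exact hfix ω
    rw [this, Finset.card_pair hne]
  have h2' : ∀ g : Γ, U g → g ≠ 1 → g ≠ z →
      ∃ ω ∈ MulAction.orbit Γ (pt0 : P1), ∀ ω' : P1, g • ω' = ω' ↔ ω' = ω := by
    intro g hg hg1 hgz
    have hns : ((g : SL2) : M2) 1 0 ≠ 0 ∨ ((g : SL2) : M2) 0 1 ≠ 0 ∨
        ((g : SL2) : M2) 0 0 ≠ ((g : SL2) : M2) 1 1 := by
      by_contra hcon
      rcases hns_of _ hcon with h | h
      · exact hg1 (Subtype.ext h)
      · exact hgz (Subtype.ext h)
    have hδ : (0 : K) * 0 = (((g : SL2) : M2) 0 0 + ((g : SL2) : M2) 1 1) ^ 2 - 4 := by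
      have : (((g : SL2) : M2) 0 0 + ((g : SL2) : M2) 1 1) ^ 2 = 4 := hg
      rw [this]; ring
    obtain ⟨P₁, P₂, hP, hfix⟩ := fix_pair h2 (g : SL2) hns 0 hδ
    have hPP : P₁ = P₂ := hP.mpr rfl
    have hfix' : ∀ ω' : P1, g • ω' = ω' ↔ ω' = P₁ := by
      intro ω'
      rw [MulAction.subgroup_smul_def, hfix ω', ← hPP, or_self]
    refine ⟨P₁, ?_, hfix'⟩
    have hkey : ∀ g' : SL2, g' ∈ Γ → (g' : M2) 0 0 + (g' : M2) 1 1 = 2 →
        (∀ ω : P1, g' • ω = (g : SL2) • ω) → P₁ ∈ MulAction.orbit Γ (pt0 : P1) := by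
      intro g' hg'Γ htr hsame
      obtain ⟨y, hyΓ, hyU⟩ := hA1 g' hg'Γ htr
      obtain ⟨x, hx⟩ := (mem_US _).mp hyU
      have hfix0 : (y⁻¹ * g' * y) • (pt0 : P1) = pt0 := by
        rw [← hx, sl_smul_pt0_eq_iff, uS_coe]
        simp
      have hfy : (g : SL2) • (y • (pt0 : P1)) = y • (pt0 : P1) := by
        rw [← hsame]
        have := congrArg (fun ω : P1 => y • ω) hfix0
        simp only [mul_smul, smul_inv_smul] at this
        exact this
      have := (hfix (y • (pt0 : P1))).mp hfy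
      rw [← hPP, or_self] at this
      rw [← this]
      exact ⟨⟨y, hyΓ⟩, rfl⟩
    have htr : ((((g : SL2) : M2) 0 0 + ((g : SL2) : M2) 1 1) - 2) *
        ((((g : SL2) : M2) 0 0 + ((g : SL2) : M2) 1 1) + 2) = 0 := by
      have : (((g : SL2) : M2) 0 0 + ((g : SL2) : M2) 1 1) ^ 2 = 4 := hg
      linear_combination this
    rcases mul_eq_zero.mp htr with h | h
    · exact hkey (g : SL2) g.2 (by linear_combination h) (fun _ => rfl)
    · apply hkey (-(g : SL2))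
      · rw [sl2_neg_eq]
        exact Γ.mul_mem hneg g.2
      · rw [Matrix.SpecialLinearGroup.coe_neg]
        simp only [Matrix.neg_apply]
        linear_combination -h
      · intro ω
        exact neg_smul_pt _ ω
  have h4 : (univ.filter (fun g : Γ => g • (pt0 : P1) = pt0 ∧ U g)).card = 2 * r := by
    have hW := card_pm_unip h2 Γ hneg
    rw [← hS, ← hrdef] at hW
    rw [← hW]
    apply card_eq_of_val
    intro g
    simp only [mem_filter, mem_univ, true_and]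
    constructor
    · rintro ⟨hg, hc, ht⟩
      refine ⟨hg, ?_, ht⟩
      rw [MulAction.subgroup_smul_def, sl_smul_pt0_eq_iff]
      exact hc
    · rintro ⟨hg, hc, ht⟩
      rw [MulAction.subgroup_smul_def, sl_smul_pt0_eq_iff] at hc
      exact ⟨hg, hc, ht⟩
  have hstab : (univ.filter (fun g : Γ => g • (pt0 : P1) = pt0)).card = 2 * r * h := by
    rw [← hB]
    apply card_eq_of_val
    intro g
    simp only [mem_filter, mem_univ, true_and]
    constructor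
    · rintro ⟨hg, hc⟩
      refine ⟨hg, ?_⟩
      rw [MulAction.subgroup_smul_def, sl_smul_pt0_eq_iff]
      exact hc
    · rintro ⟨hg, hc⟩
      rw [MulAction.subgroup_smul_def, sl_smul_pt0_eq_iff] at hc
      exact ⟨hg, hc⟩
  have hacl := acl (G := Γ) (X := P1) U z pt0 r (by omega) hz1 hzz hzfix hU1 hUz hUconj
    (fun g hg => by convert h1 g hg) h2' (by convert h4)
  have horb : (univ.filter (fun ω : P1 => ω ∈ MulAction.orbit Γ (pt0 : P1))).card *
      (2 * r * h) = Fintype.card Γ := by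
    rw [← hstab]
    convert orb_mul_stab (G := Γ) (pt0 : P1)
  rw [← horb] at hacl
  exact arith_k_one r k h _ _ hr (hk2 hA2) hk1 rfl hh1 hh2 hacl

end

end Cfsg.Agent.Lib.Helper1.Dickson
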