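import Mathlib
import Cfsg.Agent.Lib.Helper1.Dickson.Borel

set_option autoImplicit false

namespace Cfsg.Agent.Lib.Helper1.Dickson

open Cfsg.Agent.Lib.helper14

section
variable {K : Type*} [Field K]

local notation "SL2" => Matrix.SpecialLinearGroup (Fin 2) K
local notation "M2" => Matrix (Fin 2) (Fin 2) K

theorem exists_opposite (Γ : Subgroup SL2) (h₀ : SL2) (hh₀ : h₀ ∈ Γ) (h00 : (h₀ : M2) 0 0 = 0)
    (s₁ : K) (hs₁ : uS s₁ ∈ Γ) (hs₁0 : s₁ ≠ 0)
    (hC : ∀ h ∈ Γ, ∀ h' ∈ Γ, (h : M2) 1 0 ≠ 0 → (h' : M2) 1 0 ≠ 0 →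
      uS ((h : M2) 0 0 / (h : M2) 1 0 - (h' : M2) 0 0 / (h' : M2) 1 0) ∈ Γ) :
    ∃ t : K, t ≠ 0 ∧ uS (1 / t) ∈ Γ ∧ lS t ∈ Γ := by
  have hdet := sl2_det h₀
  rw [h00, zero_mul, zero_sub] at hdet
  have hγ : (h₀ : M2) 1 0 ≠ 0 := by
    intro h
    rw [h, mul_zero, neg_zero] at hdet
    exact zero_ne_one hdet
  set γ := (h₀ : M2) 1 0 with hγdef
  have hx : h₀ * uS s₁ * h₀⁻¹ = lS (-(s₁ * γ * γ)) := by
    apply sl2_ext
    · rw [sl2_mul_apply, sl2_mul_apply, sl2_mul_apply, sl2_inv_coe, uS_coe, lS_coe, h00]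
      simp only [Matrix.of_apply, Matrix.cons_val_zero, Matrix.cons_val_one]
      linear_combination hdet
    · rw [sl2_mul_apply, sl2_mul_apply, sl2_mul_apply, sl2_inv_coe, uS_coe, lS_coe, h00]
      simp only [Matrix.of_apply, Matrix.cons_val_zero, Matrix.cons_val_one]
      ring
    · rw [sl2_mul_apply, sl2_mul_apply, sl2_mul_apply, sl2_inv_coe, uS_coe, lS_coe]
      simp only [Matrix.of_apply, Matrix.cons_val_zero, Matrix.cons_val_one]
      ring
    · rw [sl2_mul_apply, sl2_mul_apply, sl2_mul_apply, sl2_inv_coe, uS_coe, lS_coe, h00]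
      simp only [Matrix.of_apply, Matrix.cons_val_zero, Matrix.cons_val_one]
      linear_combination hdet
  have ht0 : -(s₁ * γ * γ) ≠ 0 := neg_ne_zero.mpr (mul_ne_zero (mul_ne_zero hs₁0 hγ) hγ)
  have hl : lS (-(s₁ * γ * γ)) ∈ Γ := by
    rw [← hx]
    exact Γ.mul_mem (Γ.mul_mem hh₀ hs₁) (Γ.inv_mem hh₀)
  refine ⟨-(s₁ * γ * γ), ht0, ?_, hl⟩
  have := hC _ hl _ hh₀ (by rw [lS_coe]; simpa using ht0) hγ
  rw [h00, zero_div, sub_zero, lS_coe] at this
  simpa using this

variable (p : ℕ) [Fact p.Prime] [CharP K p]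

noncomputable def embHom (t : K) (ht : t ≠ 0) :
    Matrix.SpecialLinearGroup (Fin 2) (ZMod p) →* SL2 where
  toFun M := ⟨!![ZMod.castHom (dvd_refl p) K ((M : Matrix (Fin 2) (Fin 2) (ZMod p)) 0 0),
      ZMod.castHom (dvd_refl p) K ((M : Matrix (Fin 2) (Fin 2) (ZMod p)) 0 1) / t;
      ZMod.castHom (dvd_refl p) K ((M : Matrix (Fin 2) (Fin 2) (ZMod p)) 1 0) * t,
      ZMod.castHom (dvd_refl p) K ((M : Matrix (Fin 2) (Fin 2) (ZMod p)) 1 1)], by
    rw [Matrix.det_fin_two_of]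
    have h := congrArg (ZMod.castHom (dvd_refl p) K) (sl2_det M)
    rw [map_sub, map_mul, map_mul, map_one] at h
    rw [← h]
    field_simp⟩
  map_one' := by
    apply Subtype.ext
    simp only [Matrix.SpecialLinearGroup.coe_one, Matrix.one_apply_eq, map_one, ne_eq,
      zero_ne_one, not_false_eq_true, Matrix.one_apply_ne, map_zero, zero_div, zero_mul,
      one_ne_zero]
    exact Matrix.one_fin_two.symm
  map_mul' M N := by
    apply Subtype.ext
    show (!![ZMod.castHom (dvd_refl p) K (((M * N : Matrix.SpecialLinearGroup (Fin 2) (ZMod p)) :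
          Matrix (Fin 2) (Fin 2) (ZMod p)) 0 0),
        ZMod.castHom (dvd_refl p) K (((M * N : Matrix.SpecialLinearGroup (Fin 2) (ZMod p)) :
          Matrix (Fin 2) (Fin 2) (ZMod p)) 0 1) / t;
        ZMod.castHom (dvd_refl p) K (((M * N : Matrix.SpecialLinearGroup (Fin 2) (ZMod p)) :
          Matrix (Fin 2) (Fin 2) (ZMod p)) 1 0) * t,
        ZMod.castHom (dvd_refl p) K (((M * N : Matrix.SpecialLinearGroup (Fin 2) (ZMod p)) :
          Matrix (Fin 2) (Fin 2) (ZMod p)) 1 1)] : M2) =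
      !![ZMod.castHom (dvd_refl p) K ((M : Matrix (Fin 2) (Fin 2) (ZMod p)) 0 0),
        ZMod.castHom (dvd_refl p) K ((M : Matrix (Fin 2) (Fin 2) (ZMod p)) 0 1) / t;
        ZMod.castHom (dvd_refl p) K ((M : Matrix (Fin 2) (Fin 2) (ZMod p)) 1 0) * t,
        ZMod.castHom (dvd_refl p) K ((M : Matrix (Fin 2) (Fin 2) (ZMod p)) 1 1)] *
      !![ZMod.castHom (dvd_refl p) K ((N : Matrix (Fin 2) (Fin 2) (ZMod p)) 0 0),
        ZMod.castHom (dvd_refl p) K ((N : Matrix (Fin 2) (Fin 2) (ZMod p)) 0 1) / t;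
        ZMod.castHom (dvd_refl p) K ((N : Matrix (Fin 2) (Fin 2) (ZMod p)) 1 0) * t,
        ZMod.castHom (dvd_refl p) K ((N : Matrix (Fin 2) (Fin 2) (ZMod p)) 1 1)]
    rw [Matrix.mul_fin_two]
    simp only [sl2_mul_apply, map_add, map_mul]
    apply m2_congr
    · field_simp
    · field_simp
    · field_simp
    · field_simp

theorem embHom_coe (t : K) (ht : t ≠ 0) (M : Matrix.SpecialLinearGroup (Fin 2) (ZMod p)) :
    ((embHom p t ht M : SL2) : M2) =
      !![ZMod.castHom (dvd_refl p) K ((M : Matrix (Fin 2) (Fin 2) (ZMod p)) 0 0),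
      ZMod.castHom (dvd_refl p) K ((M : Matrix (Fin 2) (Fin 2) (ZMod p)) 0 1) / t;
      ZMod.castHom (dvd_refl p) K ((M : Matrix (Fin 2) (Fin 2) (ZMod p)) 1 0) * t,
      ZMod.castHom (dvd_refl p) K ((M : Matrix (Fin 2) (Fin 2) (ZMod p)) 1 1)] := rfl

theorem embHom_injective (t : K) (ht : t ≠ 0) : Function.Injective (embHom p t ht) := by
  intro M N h
  have hι : Function.Injective (ZMod.castHom (dvd_refl p) K) := RingHom.injective _
  have h' := congrArg (fun g : SL2 => (g : M2)) h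
  simp only [embHom_coe] at h'
  rw [m2_eq_iff] at h'
  obtain ⟨h1, h2, h3, h4⟩ := h'
  apply sl2_ext
  · exact hι h1
  · apply hι
    have := congrArg (fun x => x * t) h2
    simpa [div_mul_cancel₀ _ ht] using this
  · apply hι
    exact mul_right_cancel₀ ht h3
  · exact hι h4

theorem embHom_uS (t : K) (ht : t ≠ 0) (x : ZMod p) :
    embHom p t ht (uS x) = uS (ZMod.castHom (dvd_refl p) K x / t) := by
  apply Subtype.ext
  rw [embHom_coe, uS_coe, uS_coe]
  simp

theorem embHom_lS (t : K) (ht : t ≠ 0) (x : ZMod p) :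
    embHom p t ht (lS x) = lS (ZMod.castHom (dvd_refl p) K x * t) := by
  apply Subtype.ext
  rw [embHom_coe, lS_coe, lS_coe]
  simp

theorem uS_nat_mul (a : K) (n : ℕ) : (uS a : SL2) ^ n = uS (n * a) := by
  induction n with
  | zero => simp [uS_zero]
  | succ n ih =>
    rw [pow_succ, ih, uS_mul]
    congr 1
    push_cast
    ring

theorem lS_nat_mul (a : K) (n : ℕ) : (lS a : SL2) ^ n = lS (n * a) := by
  induction n with
  | zero => simp [lS_zero]
  | succ n ih =>
    rw [pow_succ, ih, lS_mul]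
    congr 1
    push_cast
    ring

theorem exists_sl2p (Γ : Subgroup SL2) (t : K) (ht : t ≠ 0) (hu : uS (1 / t) ∈ Γ)
    (hl : lS t ∈ Γ) :
    ∃ K₀ : Subgroup SL2, K₀ ≤ Γ ∧
      Nonempty (K₀ ≃* Matrix.SpecialLinearGroup (Fin 2) (ZMod p)) := by
  refine ⟨(embHom p t ht).range, ?_, ⟨(MonoidHom.ofInjective (embHom_injective p t ht)).symm⟩⟩
  have htop : Γ.comap (embHom p t ht) = ⊤ := by
    apply eq_top_of_uS_lS
    · intro x
      rw [Subgroup.mem_comap, embHom_uS]
      have hx : (ZMod.castHom (dvd_refl p) K x) = ((x.val : ℕ) : K) := by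
        conv_lhs => rw [← ZMod.natCast_zmod_val x]
        rw [map_natCast]
      rw [hx]
      have := uS_nat_mul (1 / t) x.val
      have e : ((x.val : ℕ) : K) * (1 / t) = ((x.val : ℕ) : K) / t := by ring
      rw [e] at this
      rw [← this]
      exact Γ.pow_mem hu _
    · intro x
      rw [Subgroup.mem_comap, embHom_lS]
      have hx : (ZMod.castHom (dvd_refl p) K x) = ((x.val : ℕ) : K) := by
        conv_lhs => rw [← ZMod.natCast_zmod_val x]
        rw [map_natCast]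
      rw [hx, ← lS_nat_mul]
      exact Γ.pow_mem hl _
  rintro _ ⟨M, rfl⟩
  have : M ∈ Γ.comap (embHom p t ht) := by rw [htop]; trivial
  exact this

end

end Cfsg.Agent.Lib.Helper1.Dickson
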