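import Mathlib
import Cfsg.Agent.S0275
import Cfsg.Agent.Lib.Helper1.Dickson.Core
import Cfsg.Agent.Lib.Helper1.Dickson.Embed

set_option autoImplicit false

namespace Cfsg.Agent.Lib.Helper1.Dickson

open Cfsg.Agent.Lib.helper14

section Abstract

variable {Y : Type*} [Group Y]

theorem mem_sylow_smul_iff {p : ℕ} (P : Sylow p Y) (y x : Y) :
    x ∈ y • P ↔ y⁻¹ * x * y ∈ P := by
  rw [← SetLike.mem_coe, Sylow.coe_smul, Set.mem_smul_set_iff_inv_smul_mem]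
  rw [MulAut.smul_def, ← map_inv, MulAut.conj_apply, inv_inv]
  rfl

theorem sylow_facts [Finite Y] {p : ℕ} [Fact p.Prime] (P Q : Sylow p Y) (hPQ : P ≠ Q) :
    (∀ x : Y, (∃ k : ℕ, x ^ (p ^ k) = 1) → ∃ y : Y, y⁻¹ * x * y ∈ P) ∧
    (∃ x ∈ Q, x ∉ P) ∧ (∃ x ∈ P, x ≠ 1) := by
  have hb : ∃ x ∈ Q, x ∉ P := by
    by_contra hcon
    push Not at hcon
    have hle : (Q : Subgroup Y) ≤ P := hcon
    exact hPQ (Sylow.ext (Q.3 P.2 hle))
  refine ⟨?_, hb, ?_⟩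
  · rintro x ⟨k, hk⟩
    have hZ : IsPGroup p (Subgroup.zpowers x) := by
      rintro ⟨g, hg⟩
      obtain ⟨m, rfl⟩ := Subgroup.mem_zpowers_iff.mp hg
      refine ⟨k, ?_⟩
      apply Subtype.ext
      show (x ^ m) ^ (p ^ k) = 1
      rw [← zpow_natCast, ← zpow_mul, mul_comm, zpow_mul, zpow_natCast, hk, one_zpow]
    obtain ⟨P', hP'⟩ := hZ.exists_le_sylow
    obtain ⟨y, hy⟩ := MulAction.exists_smul_eq Y P P'
    refine ⟨y, ?_⟩
    rw [← mem_sylow_smul_iff, hy]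
    exact hP' (Subgroup.mem_zpowers x)
  · by_contra hcon
    push Not at hcon
    have hPbot : (P : Subgroup Y) = ⊥ := by
      rw [eq_bot_iff]
      intro x hx
      rw [Subgroup.mem_bot]
      exact hcon x hx
    obtain ⟨x, hxQ, hxP⟩ := hb
    obtain ⟨y, hy⟩ := MulAction.exists_smul_eq Y P Q
    rw [← hy, mem_sylow_smul_iff] at hxQ
    have h1 := hcon _ hxQ
    apply hxP
    have : x = 1 := by
      have := congrArg (fun w => y * w * y⁻¹) h1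
      simpa [mul_assoc] using this
    rw [this]
    exact P.one_mem

end Abstract

section Mat
variable {K : Type*} [Field K]

local notation "SL2" => Matrix.SpecialLinearGroup (Fin 2) K
local notation "M2" => Matrix (Fin 2) (Fin 2) K

theorem exists_conj_into_US [Fintype K] (p : ℕ) [Fact p.Prime] [CharP K p] (R : Subgroup SL2)
    (hR : IsPGroup p R) : ∃ c : SL2, ∀ x ∈ R, c * x * c⁻¹ ∈ US K := by
  obtain ⟨R', hR'⟩ := hR.exists_le_sylow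
  obtain ⟨c, hc⟩ := MulAction.exists_smul_eq SL2 R' (USSylow p)
  refine ⟨c, fun x hx => ?_⟩
  have : c * x * c⁻¹ ∈ c • R' := by
    rw [mem_sylow_smul_iff]
    have e : c⁻¹ * (c * x * c⁻¹) * c = x := by group
    rw [e]
    exact hR' hx
  rw [hc] at this
  exact (mem_USSylow p _).mp this

theorem pow_p_of_tr_two (p : ℕ) [Fact p.Prime] [CharP K p] (x : SL2)
    (h : (x : M2) 0 0 + (x : M2) 1 1 = 2) : x ^ p = 1 := by
  have hcay := Cfsg.Agent.S0275.cayley_two (x : M2) x.2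
  rw [Matrix.trace_fin_two, h] at hcay
  have hN : ((x : M2) - 1) * ((x : M2) - 1) = 0 := by
    rw [sub_mul, mul_sub, mul_sub, hcay, one_mul, mul_one, mul_one, two_smul]
    abel
  apply Subtype.ext
  rw [Matrix.SpecialLinearGroup.coe_pow, Matrix.SpecialLinearGroup.coe_one]
  have e : (x : M2) = 1 + ((x : M2) - 1) := by abel
  rw [e, Cfsg.Agent.S0275.one_add_pow_of_sq_zero' _ hN]
  have : (p : ℕ) • ((x : M2) - 1) = 0 := by
    rw [← Nat.cast_smul_eq_nsmul K, CharP.cast_eq_zero K p, zero_smul]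
  rw [this, add_zero]

theorem sl2_neg_mul (x y : SL2) : -x * y = -(x * y) := by
  apply Subtype.ext
  simp

theorem sl2_mul_neg (x y : SL2) : x * -y = -(x * y) := by
  apply Subtype.ext
  simp

theorem sl2_neg_neg (x : SL2) : - -x = x := by
  apply Subtype.ext
  simp

theorem sl2_neg_inv (x : SL2) : (-x)⁻¹ = -x⁻¹ := by
  apply inv_eq_of_mul_eq_one_right
  rw [sl2_neg_mul, sl2_mul_neg, sl2_neg_neg, mul_inv_cancel]

def negClosure (Γ : Subgroup SL2) : Subgroup SL2 where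
  carrier := {x | x ∈ Γ ∨ -x ∈ Γ}
  one_mem' := Or.inl Γ.one_mem
  mul_mem' := by
    rintro x y (hx | hx) (hy | hy)
    · exact Or.inl (Γ.mul_mem hx hy)
    · right
      rw [← sl2_mul_neg]
      exact Γ.mul_mem hx hy
    · right
      rw [← sl2_neg_mul]
      exact Γ.mul_mem hx hy
    · left
      have := Γ.mul_mem hx hy
      rwa [sl2_neg_mul, sl2_mul_neg, sl2_neg_neg] at this
  inv_mem' := by
    rintro x (hx | hx)
    · exact Or.inl (Γ.inv_mem hx)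
    · right
      rw [← sl2_neg_inv]
      exact Γ.inv_mem hx

theorem mem_negClosure (Γ : Subgroup SL2) (x : SL2) : x ∈ negClosure Γ ↔ x ∈ Γ ∨ -x ∈ Γ := Iff.rfl

theorem le_negClosure (Γ : Subgroup SL2) : Γ ≤ negClosure Γ := fun _ hx => Or.inl hx

theorem neg_one_mem_negClosure (Γ : Subgroup SL2) : (-1 : SL2) ∈ negClosure Γ := by
  right
  rw [sl2_neg_neg]
  exact Γ.one_mem

theorem sl2_neg_pow_odd (x : SL2) (n : ℕ) (hn : Odd n) : (-x) ^ n = -(x ^ n) := by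
  obtain ⟨m, rfl⟩ := hn
  induction m with
  | zero => simp
  | succ m ih =>
    have e : 2 * (m + 1) + 1 = (2 * m + 1) + 1 + 1 := by ring
    rw [e, pow_succ, pow_succ, ih]
    simp only [sl2_neg_mul, sl2_mul_neg, sl2_neg_neg]
    rw [pow_succ (x) (2 * m + 1 + 1), pow_succ x (2 * m + 1)]

theorem mem_of_pow_odd (Γ : Subgroup SL2) (x : SL2) (hx : x ∈ negClosure Γ) (n : ℕ) (hn : Odd n)
    (hxn : x ^ n = 1) : x ∈ Γ := by
  rcases hx with hx | hx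
  · exact hx
  · have h1 : (-x) ^ n ∈ Γ := Γ.pow_mem hx n
    rw [sl2_neg_pow_odd x n hn, hxn] at h1
    have h2 := Γ.mul_mem h1 hx
    rwa [sl2_neg_mul, sl2_mul_neg, sl2_neg_neg, one_mul] at h2

theorem uS_pow_char (p : ℕ) [CharP K p] (a : K) : (uS a : SL2) ^ p = 1 := by
  rw [uS_nat_mul, CharP.cast_eq_zero K p, zero_mul, uS_zero]

theorem lS_pow_char (p : ℕ) [CharP K p] (a : K) : (lS a : SL2) ^ p = 1 := by
  rw [lS_nat_mul, CharP.cast_eq_zero K p, zero_mul, lS_zero]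

theorem uS_mem_BS (a : K) : (uS a : SL2) ∈ BS K := by
  rw [mem_BS, uS_coe]
  simp

theorem uS_inv (a : K) : (uS a : SL2)⁻¹ = uS (-a) := by
  rw [inv_eq_iff_mul_eq_one, uS_mul, add_neg_cancel, uS_zero]

theorem conj_uS_entry (g : SL2) (t : K) :
    ((uS (-t) * g * (uS (-t))⁻¹ : SL2) : M2) 0 0 = (g : M2) 0 0 - t * (g : M2) 1 0 := by
  rw [uS_inv, neg_neg, sl2_mul_apply, sl2_mul_apply, sl2_mul_apply, uS_coe, uS_coe]
  simp only [Matrix.of_apply, Matrix.cons_val_zero, Matrix.cons_val_one]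
  ring

theorem dickson_sq [Fintype K] (p : ℕ) [Fact p.Prime] [CharP K p] (hp5 : 5 ≤ p)
    (Γ₀ : Subgroup SL2)
    (hSq : ∀ g ∈ Γ₀, ∃ δ : K, δ * δ = ((g : M2) 0 0 + (g : M2) 1 1) ^ 2 - 4)
    (P Q : Sylow p Γ₀) (hPQ : P ≠ Q) :
    ∃ K₀ : Subgroup SL2, K₀ ≤ Γ₀ ∧
      Nonempty (K₀ ≃* Matrix.SpecialLinearGroup (Fin 2) (ZMod p)) := by
  classical
  have hpp : p.Prime := Fact.out
  have hodd : Odd p := hpp.odd_of_ne_two (by omega)
  have h2 : (2 : K) ≠ 0 := by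
    intro h
    have h' : ((2 : ℕ) : K) = 0 := by exact_mod_cast h
    rw [CharP.cast_eq_zero_iff K p] at h'
    have := Nat.le_of_dvd (by norm_num) h'
    omega
  obtain ⟨hA, ⟨x₂, hx₂Q, hx₂P⟩, ⟨x₁, hx₁P, hx₁1⟩⟩ := sylow_facts P Q hPQ
  obtain ⟨c, hc⟩ := exists_conj_into_US p ((P : Subgroup Γ₀).map Γ₀.subtype) (P.2.map _)
  have hcP : ∀ x : Γ₀, x ∈ P → c * (x : SL2) * c⁻¹ ∈ US K :=
    fun x hx => hc _ (Subgroup.mem_map_of_mem _ hx)
  have hmax : ∀ x : Γ₀, c * (x : SL2) * c⁻¹ ∈ US K → x ∈ P := by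
    set φ : Γ₀ →* SL2 := (MulAut.conj c).toMonoidHom.comp Γ₀.subtype with hφ
    have hφinj : Function.Injective φ := (MulAut.conj c).injective.comp Γ₀.subtype_injective
    have hRp : IsPGroup p ((US K).comap φ) := (isPGroup_US p).comap_of_injective φ hφinj
    have hPR : (P : Subgroup Γ₀) ≤ (US K).comap φ := fun x hx => hcP x hx
    have hRP : (US K).comap φ = P := P.3 hRp hPR
    intro x hx
    have : x ∈ (US K).comap φ := hx
    rw [hRP] at this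
    exact this
  obtain ⟨k₂, hk₂⟩ := Q.2 ⟨x₂, hx₂Q⟩
  obtain ⟨y, hy⟩ := hA x₂ ⟨k₂, congrArg Subtype.val hk₂⟩
  have hy10 : ((c * (y : SL2) * c⁻¹ : SL2) : M2) 1 0 ≠ 0 := by
    intro h0
    apply hx₂P
    apply hmax
    have e : c * (x₂ : SL2) * c⁻¹ = (c * (y : SL2) * c⁻¹) *
        (c * ((y⁻¹ * x₂ * y : Γ₀) : SL2) * c⁻¹) * (c * (y : SL2) * c⁻¹)⁻¹ := by
      simp only [Subgroup.coe_mul, Subgroup.coe_inv]
      group
    rw [e]
    exact conj_mem_US_of_mem_BS _ ((mem_BS _).mpr h0) _ (hcP _ hy)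
  set t := ((c * (y : SL2) * c⁻¹ : SL2) : M2) 0 0 / ((c * (y : SL2) * c⁻¹ : SL2) : M2) 1 0 with ht
  set c' := uS (-t) * c with hc'
  have hc'conj : ∀ x : SL2, c' * x * c'⁻¹ = uS (-t) * (c * x * c⁻¹) * (uS (-t))⁻¹ := by
    intro x
    rw [hc']
    group
  have hc'P : ∀ x : Γ₀, x ∈ P → c' * (x : SL2) * c'⁻¹ ∈ US K := by
    intro x hx
    rw [hc'conj]
    exact conj_mem_US_of_mem_BS _ (uS_mem_BS _) _ (hcP x hx)
  set Γ₂ := Γ₀.map (MulAut.conj c').toMonoidHom with hΓ₂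
  have hmemΓ₂ : ∀ x : SL2, x ∈ Γ₂ ↔ c'⁻¹ * x * c' ∈ Γ₀ := by
    intro x
    rw [hΓ₂, Subgroup.mem_map_equiv, MulAut.conj_symm_apply]
  have hconjΓ₂ : ∀ x : SL2, x ∈ Γ₀ → c' * x * c'⁻¹ ∈ Γ₂ := by
    intro x hx
    rw [hmemΓ₂]
    have e : c'⁻¹ * (c' * x * c'⁻¹) * c' = x := by group
    rw [e]
    exact hx
  set h₀ := c' * (y : SL2) * c'⁻¹ with hh₀
  have hh₀Γ : h₀ ∈ Γ₂ := hconjΓ₂ _ y.2
  have hh₀0 : (h₀ : M2) 0 0 = 0 := by
    rw [hh₀, hc'conj, conj_uS_entry, ht]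
    field_simp
    ring
  obtain ⟨s₁, hs₁⟩ := (mem_US _).mp (hc'P x₁ hx₁P)
  have hs₁0 : s₁ ≠ 0 := by
    intro h0
    rw [h0, uS_zero] at hs₁
    apply hx₁1
    apply Subtype.ext
    have : (x₁ : SL2) = c'⁻¹ * (c' * (x₁ : SL2) * c'⁻¹) * c' := by group
    rw [this, ← hs₁]
    simp
  have hs₁Γ : uS s₁ ∈ Γ₂ := by
    rw [hs₁]
    exact hconjΓ₂ _ x₁.2
  have hA1₂ : ∀ x' ∈ Γ₂, (x' : M2) 0 0 + (x' : M2) 1 1 = 2 →
      ∃ y' ∈ Γ₂, y'⁻¹ * x' * y' ∈ US K := by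
    intro x' hx' htr
    have hx := (hmemΓ₂ x').mp hx'
    have hxp : x' ^ p = 1 := pow_p_of_tr_two p x' htr
    have hxp' : (⟨c'⁻¹ * x' * c', hx⟩ : Γ₀) ^ (p ^ 1) = 1 := by
      apply Subtype.ext
      rw [pow_one]
      show (c'⁻¹ * x' * c') ^ p = 1
      have : (c'⁻¹ * x' * c') ^ p = c'⁻¹ * x' ^ p * c' := by
        have := conj_pow (a := c'⁻¹) (b := x') (i := p)
        rw [inv_inv] at this
        exact this
      rw [this, hxp]
      group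
    obtain ⟨y₀, hy₀⟩ := hA _ ⟨1, hxp'⟩
    refine ⟨c' * (y₀ : SL2) * c'⁻¹, hconjΓ₂ _ y₀.2, ?_⟩
    have := hc'P _ hy₀
    have e : (c' * (y₀ : SL2) * c'⁻¹)⁻¹ * x' * (c' * (y₀ : SL2) * c'⁻¹) =
        c' * ((y₀⁻¹ * ⟨c'⁻¹ * x' * c', hx⟩ * y₀ : Γ₀) : SL2) * c'⁻¹ := by
      simp only [Subgroup.coe_mul, Subgroup.coe_inv]
      group
    rw [e]
    exact this
  set Γ₃ := negClosure Γ₂ with hΓ₃
  have hSq₂ : ∀ g ∈ Γ₂, ∃ δ : K, δ * δ = ((g : M2) 0 0 + (g : M2) 1 1) ^ 2 - 4 := by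
    intro g hg
    obtain ⟨δ, hδ⟩ := hSq _ ((hmemΓ₂ g).mp hg)
    refine ⟨δ, ?_⟩
    rw [hδ]
    have := tr_conj c'⁻¹ g
    rw [inv_inv] at this
    rw [this]
  have hSq₃ : ∀ g ∈ Γ₃, ∃ δ : K, δ * δ = ((g : M2) 0 0 + (g : M2) 1 1) ^ 2 - 4 := by
    rintro g (hg | hg)
    · exact hSq₂ g hg
    · obtain ⟨δ, hδ⟩ := hSq₂ _ hg
      refine ⟨δ, ?_⟩
      rw [hδ, Matrix.SpecialLinearGroup.coe_neg]
      simp only [Matrix.neg_apply]
      ring
  have hA1₃ : ∀ x' ∈ Γ₃, (x' : M2) 0 0 + (x' : M2) 1 1 = 2 →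
      ∃ y' ∈ Γ₃, y'⁻¹ * x' * y' ∈ US K := by
    intro x' hx' htr
    have hx'₂ : x' ∈ Γ₂ := mem_of_pow_odd Γ₂ x' hx' p hodd (pow_p_of_tr_two p x' htr)
    obtain ⟨y', hy', hy'U⟩ := hA1₂ x' hx'₂ htr
    exact ⟨y', le_negClosure Γ₂ hy', hy'U⟩
  have hh₀10 : (h₀ : M2) 1 0 ≠ 0 := by
    intro h
    have := sl2_det h₀
    rw [hh₀0, h, zero_mul, mul_zero, sub_zero] at this
    exact zero_ne_one this
  have hcard : 5 ≤ (Finset.univ.filter (fun s : K => uS s ∈ Γ₃)).card := by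
    have hinj : (Finset.range p).card ≤ (Finset.univ.filter (fun s : K => uS s ∈ Γ₃)).card := by
      apply Finset.card_le_card_of_injOn (fun j : ℕ => (j : K) * s₁)
      · intro j _
        rw [Finset.mem_coe, Finset.mem_filter]
        refine ⟨Finset.mem_univ _, le_negClosure Γ₂ ?_⟩
        rw [← uS_nat_mul]
        exact Γ₂.pow_mem hs₁Γ j
      · intro j hj j' hj' h
        rw [Finset.mem_coe, Finset.mem_range] at hj hj'
        have h' : (j : K) = (j' : K) := mul_right_cancel₀ hs₁0 h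
        rw [CharP.natCast_eq_natCast K p] at h'
        exact Nat.ModEq.eq_of_lt_of_lt h' hj hj'
    rw [Finset.card_range] at hinj
    omega
  have hC := dickson_core h2 Γ₃ hSq₃ (neg_one_mem_negClosure Γ₂) hA1₃
    ⟨h₀, le_negClosure Γ₂ hh₀Γ, hh₀10⟩ hcard
  obtain ⟨t₀, ht₀, hu, hl⟩ := exists_opposite Γ₃ h₀ (le_negClosure Γ₂ hh₀Γ) hh₀0 s₁
    (le_negClosure Γ₂ hs₁Γ) hs₁0 hC
  have hu₂ : uS (1 / t₀) ∈ Γ₂ := mem_of_pow_odd Γ₂ _ hu p hodd (uS_pow_char p _)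
  have hl₂ : lS t₀ ∈ Γ₂ := mem_of_pow_odd Γ₂ _ hl p hodd (lS_pow_char p _)
  obtain ⟨K₀, hK₀, ⟨e⟩⟩ := exists_sl2p p Γ₂ t₀ ht₀ hu₂ hl₂
  refine ⟨K₀.map (MulAut.conj c'⁻¹).toMonoidHom, ?_, ?_⟩
  · rintro _ ⟨k, hk, rfl⟩
    have := (hmemΓ₂ k).mp (hK₀ hk)
    simpa [MulAut.conj_apply] using this
  · exact ⟨(K₀.equivMapOfInjective _ (MulAut.conj c'⁻¹).injective).symm.trans e⟩

end Mat

end Cfsg.Agent.Lib.Helper1.Dickson
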