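import Mathlib
import Cfsg.Agent.Lib.Helper1.Dickson.Wlog

set_option autoImplicit false

namespace Cfsg.Agent.Lib.Helper1.Dickson

open Polynomial

universe u

theorem exists_sq_ext (F : Type u) [Field F] [Fintype F] :
    ∃ (K : Type u) (_ : Field K) (_ : Algebra F K) (_ : Finite K),
      ∀ a : F, ∃ b : K, b * b = algebraMap F K a := by
  classical
  set f : F[X] := ∏ a : F, (X ^ 2 - C a) with hf
  have hf0 : f ≠ 0 := by
    rw [hf, Finset.prod_ne_zero_iff]
    intro a _
    exact X_pow_sub_C_ne_zero (by norm_num) a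
  refine ⟨f.SplittingField, inferInstance, inferInstance, Module.finite_of_finite F, ?_⟩
  intro a
  have hsp := Polynomial.SplittingField.splits f
  have hdvd : (X ^ 2 - C a : F[X]) ∣ f := Finset.dvd_prod_of_mem _ (Finset.mem_univ a)
  have hdvd' : (X ^ 2 - C a : F[X]).map (algebraMap F f.SplittingField) ∣
      f.map (algebraMap F f.SplittingField) := Polynomial.map_dvd _ hdvd
  have hf0' : f.map (algebraMap F f.SplittingField) ≠ 0 :=
    (Polynomial.map_ne_zero_iff (algebraMap F f.SplittingField).injective).mpr hf0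
  have hsp' := Splits.of_dvd hsp hf0' hdvd'
  have hmap : (X ^ 2 - C a : F[X]).map (algebraMap F f.SplittingField) =
      X ^ 2 - C (algebraMap F f.SplittingField a) := by
    rw [Polynomial.map_sub, Polynomial.map_pow, Polynomial.map_X, Polynomial.map_C]
  rw [hmap] at hsp'
  have hdeg : (X ^ 2 - C (algebraMap F f.SplittingField a) : f.SplittingField[X]).degree ≠ 0 := by
    rw [degree_X_pow_sub_C (by norm_num)]
    norm_num
  obtain ⟨b, hb⟩ := hsp'.exists_eval_eq_zero hdeg
  refine ⟨b, ?_⟩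
  rw [eval_sub, eval_pow, eval_X, eval_C] at hb
  linear_combination hb

theorem dickson_ge5 {F : Type*} [Field F] [Fintype F] (p : ℕ) [Fact p.Prime] [CharP F p]
    (hp5 : 5 ≤ p) (H : Subgroup (Matrix.SpecialLinearGroup (Fin 2) F))
    (hH : 1 < Nat.card (Sylow p H)) :
    ∃ K : Subgroup (Matrix.SpecialLinearGroup (Fin 2) F), K ≤ H ∧
      Nonempty (K ≃* Matrix.SpecialLinearGroup (Fin 2) (ZMod p)) := by
  classical
  obtain ⟨P, Q, hPQ⟩ : ∃ P Q : Sylow p H, P ≠ Q := by
    rw [Finite.one_lt_card_iff_nontrivial] at hH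
    exact exists_pair_ne _
  obtain ⟨K, hK1, hK2, hK3, hsq⟩ := exists_sq_ext F
  letI : Field K := hK1
  letI : Algebra F K := hK2
  haveI : Finite K := hK3
  haveI : Fintype K := Fintype.ofFinite K
  haveI : CharP K p := charP_of_injective_algebraMap (algebraMap F K).injective p
  set φ : Matrix.SpecialLinearGroup (Fin 2) F →* Matrix.SpecialLinearGroup (Fin 2) K :=
    Matrix.SpecialLinearGroup.map (algebraMap F K) with hφ
  have hφe : ∀ (x : Matrix.SpecialLinearGroup (Fin 2) F) (i j : Fin 2),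
      ((φ x : Matrix.SpecialLinearGroup (Fin 2) K) : Matrix (Fin 2) (Fin 2) K) i j =
        algebraMap F K ((x : Matrix (Fin 2) (Fin 2) F) i j) := by
    intro x i j
    rw [hφ, Matrix.SpecialLinearGroup.map_apply_coe, RingHom.mapMatrix_apply, Matrix.map_apply]
  have hφinj : Function.Injective φ := by
    intro x y h
    apply Subtype.ext
    ext i j
    apply (algebraMap F K).injective
    rw [← hφe, ← hφe, h]
  set Γ₀ := H.map φ with hΓ₀
  have hSq : ∀ g ∈ Γ₀, ∃ δ : K, δ * δ =
      ((g : Matrix (Fin 2) (Fin 2) K) 0 0 + (g : Matrix (Fin 2) (Fin 2) K) 1 1) ^ 2 - 4 := by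
    rintro _ ⟨h, -, rfl⟩
    obtain ⟨b, hb⟩ := hsq (((h : Matrix (Fin 2) (Fin 2) F) 0 0 +
      (h : Matrix (Fin 2) (Fin 2) F) 1 1) ^ 2 - 4)
    refine ⟨b, ?_⟩
    rw [hb, hφe, hφe, map_sub, map_pow, map_add, map_ofNat]
  set e : H ≃* Γ₀ := H.equivMapOfInjective φ hφinj with he
  have hrange : (e.symm.toMonoidHom).range = ⊤ := MonoidHom.range_eq_top.mpr e.symm.surjective
  set P' : Sylow p Γ₀ := P.comapOfInjective e.symm.toMonoidHom e.symm.injective
    (by rw [hrange]; exact le_top) with hP'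
  set Q' : Sylow p Γ₀ := Q.comapOfInjective e.symm.toMonoidHom e.symm.injective
    (by rw [hrange]; exact le_top) with hQ'
  have hne : P' ≠ Q' := by
    intro h
    apply hPQ
    apply Sylow.ext
    have h1 : Subgroup.comap e.symm.toMonoidHom (P : Subgroup H) =
        Subgroup.comap e.symm.toMonoidHom (Q : Subgroup H) := congrArg Sylow.toSubgroup h
    exact Subgroup.comap_injective e.symm.surjective h1
  obtain ⟨K₀, hK₀, ⟨e₀⟩⟩ := dickson_sq p hp5 Γ₀ hSq P' Q' hne
  refine ⟨K₀.comap φ, ?_, ?_⟩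
  · intro x hx
    have h1 : φ x ∈ Γ₀ := hK₀ hx
    obtain ⟨h, hh, hhx⟩ := h1
    rw [← hφinj hhx]
    exact hh
  · have hmap : (K₀.comap φ).map φ = K₀ := by
      apply Subgroup.map_comap_eq_self
      exact hK₀.trans (Subgroup.map_le_range φ H)
    exact ⟨((K₀.comap φ).equivMapOfInjective φ hφinj).trans
      ((MulEquiv.subgroupCongr hmap).trans e₀)⟩

end Cfsg.Agent.Lib.Helper1.Dickson
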