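import Mathlib

set_option autoImplicit false

namespace Cfsg.Agent.Lib.Helper1.Dickson

open QuaternionGroup

section
variable {n : ℕ} [NeZero n]

theorem zmod_two_mul_eq_zero (l : ZMod (2 * n)) (h : l + l = 0) : l = 0 ∨ l = (n : ZMod (2 * n)) := by
  have hn : 0 < n := Nat.pos_of_ne_zero (NeZero.ne n)
  have hv : l.val < 2 * n := ZMod.val_lt l
  have h1 : ((l.val + l.val : ℕ) : ZMod (2 * n)) = 0 := by
    push_cast
    rw [ZMod.natCast_zmod_val]
    exact h
  rw [ZMod.natCast_eq_zero_iff] at h1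
  have h2 : n ∣ l.val := by
    have : 2 * n ∣ 2 * l.val := by
      have e : l.val + l.val = 2 * l.val := by ring
      rwa [e] at h1
    exact (Nat.mul_dvd_mul_iff_left (by norm_num)).mp this
  obtain ⟨q, hq⟩ := h2
  have hq2 : q < 2 := by
    by_contra hcon
    push Not at hcon
    have : n * 2 ≤ n * q := Nat.mul_le_mul_left n hcon
    omega
  interval_cases q
  · left
    rw [mul_zero] at hq
    rw [← ZMod.natCast_zmod_val l, hq, Nat.cast_zero]
  · right
    rw [mul_one] at hq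
    rw [← ZMod.natCast_zmod_val l, hq]

theorem natCast_n_ne_zero : (n : ZMod (2 * n)) ≠ 0 := by
  have hn : 0 < n := Nat.pos_of_ne_zero (NeZero.ne n)
  rw [Ne, ZMod.natCast_eq_zero_iff]
  intro h
  have := Nat.le_of_dvd hn h
  omega

theorem a_eq_pow (l : ZMod (2 * n)) : (a l : QuaternionGroup n) = (a 1) ^ l.val := by
  rw [a_one_pow, ZMod.natCast_zmod_val]

theorem a_n_ne_one : (a (n : ZMod (2 * n)) : QuaternionGroup n) ≠ 1 := by
  rw [one_def]
  intro h
  injection h with h'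
  exact natCast_n_ne_zero h'

theorem xa_conj_a_one (j : ZMod (2 * n)) :
    (xa j : QuaternionGroup n) * a 1 * (xa j)⁻¹ = (a 1)⁻¹ := by
  have h1 : (xa j : QuaternionGroup n) * a 1 = (a 1)⁻¹ * xa j := by
    rw [eq_inv_mul_iff_mul_eq, xa_mul_a, a_mul_xa]
    congr 1
    ring
  rw [h1, mul_assoc, mul_inv_cancel, mul_one]

theorem xa_inv_mul_xa (j j' : ZMod (2 * n)) :
    ∃ l : ZMod (2 * n), ((xa j : QuaternionGroup n))⁻¹ * xa j' = a l := by
  rcases h : ((xa j : QuaternionGroup n))⁻¹ * xa j' with l | l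
  · exact ⟨l, rfl⟩
  · exfalso
    rw [inv_mul_eq_iff_eq_mul, xa_mul_xa] at h
    cases h

end

section
variable {G : Type*} [Group G]

theorem quat_hyps (T : Subgroup G) (n : ℕ) [NeZero n] (e : T ≃* QuaternionGroup n) :
    ∃ (A : Subgroup G) (z : G), IsCyclic A ∧ z ≠ 1 ∧ z * z = 1 ∧ z ∈ A ∧
      (∀ y ∈ T, y ∉ A → y * y = z) ∧
      (∀ y ∈ T, y ∉ A → ∀ a' ∈ A, y * a' * y⁻¹ = a'⁻¹) ∧
      (∀ y ∈ T, ∀ y' ∈ T, y ∉ A → y' ∉ A → y⁻¹ * y' ∈ A) ∧
      (∀ a' ∈ A, a' * a' = 1 → a' = 1 ∨ a' = z) := by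
  set I : T := e.symm (a 1) with hI
  have heI : e I = a 1 := by rw [hI, MulEquiv.apply_symm_apply]
  set A : Subgroup G := Subgroup.zpowers (I : G) with hA
  set Z : T := e.symm (a (n : ZMod (2 * n))) with hZ
  have hcoe_pow : ∀ m : ℕ, ((I ^ m : T) : G) = (I : G) ^ m := fun m => Subgroup.coe_pow _ _ _
  have hmemA : ∀ l : ZMod (2 * n), ((e.symm (a l) : T) : G) ∈ A := by
    intro l
    have : e.symm (a l) = I ^ l.val := by
      rw [a_eq_pow, map_pow]
    rw [this, hcoe_pow]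
    exact Subgroup.pow_mem _ (Subgroup.mem_zpowers _) _
  have hK1 : ∀ Y : T, (Y : G) ∉ A → ∃ j, e Y = xa j := by
    intro Y hY
    rcases h : e Y with l | j
    · exfalso
      apply hY
      have : Y = e.symm (a l) := by rw [← h, MulEquiv.symm_apply_apply]
      rw [this]
      exact hmemA l
    · exact ⟨j, rfl⟩
  have hAT : A ≤ T := by
    rw [hA, Subgroup.zpowers_le]
    exact I.2
  have hAelt : ∀ a' ∈ A, ∃ m : ℤ, a' = ((I ^ m : T) : G) := by
    intro a' ha'
    obtain ⟨m, rfl⟩ := Subgroup.mem_zpowers_iff.mp ha'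
    exact ⟨m, (Subgroup.coe_zpow _ _ _).symm⟩
  refine ⟨A, (Z : G), Subgroup.isCyclic_zpowers _, ?_, ?_, hmemA _, ?_, ?_, ?_, ?_⟩
  · intro h
    have : Z = 1 := Subtype.ext h
    rw [hZ] at this
    have h2 := congrArg e this
    rw [MulEquiv.apply_symm_apply, map_one] at h2
    exact a_n_ne_one h2
  · have : Z * Z = 1 := by
      apply e.injective
      rw [map_mul, map_one, hZ, MulEquiv.apply_symm_apply, a_mul_a, one_def]
      congr 1
      have : (n : ZMod (2 * n)) + n = ((2 * n : ℕ) : ZMod (2 * n)) := by push_cast; ring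
      rw [this, ZMod.natCast_self]
    exact congrArg Subtype.val this
  · intro y hy hyA
    obtain ⟨j, hj⟩ := hK1 ⟨y, hy⟩ hyA
    have : (⟨y, hy⟩ : T) * ⟨y, hy⟩ = Z := by
      apply e.injective
      rw [map_mul, hj, hZ, MulEquiv.apply_symm_apply, xa_mul_xa]
      congr 1
      ring
    exact congrArg Subtype.val this
  · intro y hy hyA a' ha'
    obtain ⟨j, hj⟩ := hK1 ⟨y, hy⟩ hyA
    obtain ⟨m, rfl⟩ := hAelt a' ha'
    have : (⟨y, hy⟩ : T) * I ^ m * (⟨y, hy⟩ : T)⁻¹ = (I ^ m)⁻¹ := by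
      apply e.injective
      rw [map_mul, map_mul, map_inv, map_inv, map_zpow, hj, heI]
      have := map_zpow (MulAut.conj (xa j : QuaternionGroup n)) (a 1) m
      rw [MulAut.conj_apply, MulAut.conj_apply, xa_conj_a_one] at this
      rw [this, inv_zpow]
    exact congrArg Subtype.val this
  · intro y hy y' hy' hyA hy'A
    obtain ⟨j, hj⟩ := hK1 ⟨y, hy⟩ hyA
    obtain ⟨j', hj'⟩ := hK1 ⟨y', hy'⟩ hy'A
    obtain ⟨l, hl⟩ := xa_inv_mul_xa j j'
    have : (⟨y, hy⟩ : T)⁻¹ * ⟨y', hy'⟩ = e.symm (a l) := by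
      apply e.injective
      rw [map_mul, map_inv, hj, hj', MulEquiv.apply_symm_apply, hl]
    have h2 := congrArg Subtype.val this
    have h3 : y⁻¹ * y' = ((e.symm (a l) : T) : G) := h2
    rw [h3]
    exact hmemA l
  · intro a' ha' haa
    have ha'T := hAT ha'
    rcases h : e ⟨a', ha'T⟩ with l | j
    · have h1 : e (⟨a', ha'T⟩ * ⟨a', ha'T⟩) = 1 := by
        have : (⟨a', ha'T⟩ : T) * ⟨a', ha'T⟩ = 1 := Subtype.ext haa
        rw [this, map_one]
      rw [map_mul, h, a_mul_a, one_def] at h1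
      injection h1 with h1'
      rcases zmod_two_mul_eq_zero l h1' with h0 | h0
      · left
        have : (⟨a', ha'T⟩ : T) = 1 := by
          apply e.injective
          rw [h, h0, map_one, one_def]
        exact congrArg Subtype.val this
      · right
        have : (⟨a', ha'T⟩ : T) = Z := by
          apply e.injective
          rw [h, h0, hZ, MulEquiv.apply_symm_apply]
        exact congrArg Subtype.val this
    · exfalso
      have h1 : e (⟨a', ha'T⟩ * ⟨a', ha'T⟩) = 1 := by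
        have : (⟨a', ha'T⟩ : T) * ⟨a', ha'T⟩ = 1 := Subtype.ext haa
        rw [this, map_one]
      rw [map_mul, h, xa_mul_xa, one_def] at h1
      injection h1 with h1'
      apply natCast_n_ne_zero (n := n)
      rw [← h1']
      ring

end

end Cfsg.Agent.Lib.Helper1.Dickson
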