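import Mathlib
import Cfsg.Agent.S0275
import Cfsg.Agent.S0071
import Cfsg.Agent.Lib.Helper1.QuatOddAut
import Cfsg.Agent.Lib.Helper1.Dickson.QuatHyps
import Cfsg.Agent.Lib.helper14.SL2Odd

set_option autoImplicit false

namespace Cfsg.Agent.Lib.Helper1.Dickson

open Cfsg.Agent.Lib.helper14

theorem mem_normal_of_coprime {G : Type*} [Group G] [Finite G] (N : Subgroup G) [N.Normal]
    (x : G) (a : ℕ) (hx : x ^ a = 1) (hcop : Nat.Coprime a N.index) : x ∈ N := by
  have h1 : (QuotientGroup.mk x : G ⧸ N) ^ a = 1 := by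
    rw [← QuotientGroup.mk_pow, hx, QuotientGroup.mk_one]
  have h2 : (QuotientGroup.mk x : G ⧸ N) ^ N.index = 1 := by
    rw [Subgroup.index_eq_card]
    exact pow_card_eq_one'
  rw [← QuotientGroup.eq_one_iff]
  exact orderOf_eq_one_iff.mp (Nat.eq_one_of_dvd_coprimes hcop
    (orderOf_dvd_of_pow_eq_one h1) (orderOf_dvd_of_pow_eq_one h2))

theorem closure_triple_top {X : Type*} [Group X] (i j g : X) :
    Subgroup.closure ({⟨i, Subgroup.subset_closure (by simp)⟩,
      ⟨j, Subgroup.subset_closure (by simp)⟩, ⟨g, Subgroup.subset_closure (by simp)⟩} :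
        Set (Subgroup.closure ({i, j, g} : Set X))) = ⊤ := by
  have h := Subgroup.closure_closure_coe_preimage (k := ({i, j, g} : Set X))
  rw [← h]
  congr 1
  ext x
  simp only [Set.mem_insert_iff, Set.mem_singleton_iff, Set.mem_preimage, Subtype.ext_iff]

theorem dickson_three {F : Type*} [Field F] [Fintype F] [CharP F 3]
    (H : Subgroup (Matrix.SpecialLinearGroup (Fin 2) F)) (hH : 1 < Nat.card (Sylow 3 H)) :
    ∃ K : Subgroup (Matrix.SpecialLinearGroup (Fin 2) F), K ≤ H ∧
      Nonempty (K ≃* Matrix.SpecialLinearGroup (Fin 2) (ZMod 3)) := by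
  haveI : Fact (Nat.Prime 3) := ⟨Nat.prime_three⟩
  haveI : Fact (Nat.Prime 2) := ⟨Nat.prime_two⟩
  obtain ⟨P, Q, hPQ⟩ : ∃ P Q : Sylow 3 H, P ≠ Q := by
    rw [Finite.one_lt_card_iff_nontrivial] at hH
    exact exists_pair_ne _
  obtain ⟨S⟩ : Nonempty (Sylow 2 H) := inferInstance
  obtain ⟨k, hk, ⟨e⟩⟩ := Cfsg.Agent.S0275.result 3 (by norm_num) H hH S
  haveI : NeZero (2 ^ k) := ⟨by positivity⟩
  have hno : ¬ ∃ N : Subgroup H, N.Normal ∧ N.IsComplement' (S : Subgroup H) := by
    rintro ⟨N, hN, hc⟩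
    haveI := hN
    have hcard : Nat.card N * Nat.card (S : Subgroup H) = Nat.card H := hc.card_mul_card
    have hidxN : N.index = Nat.card (S : Subgroup H) := by
      have := N.card_mul_index
      exact Nat.eq_of_mul_eq_mul_left Nat.card_pos (this.trans hcard.symm)
    have hidxS : (S : Subgroup H).index = Nat.card N := by
      have := (S : Subgroup H).card_mul_index
      rw [mul_comm] at hcard
      exact Nat.eq_of_mul_eq_mul_left Nat.card_pos (this.trans hcard.symm)
    have hNodd : Odd (Nat.card N) := by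
      rw [← hidxS, ← Nat.not_even_iff_odd, even_iff_two_dvd]
      exact S.not_dvd_index
    obtain ⟨m, hm⟩ := S.2.exists_card_eq
    have hle : ∀ T : Sylow 3 H, (T : Subgroup H) ≤ N := by
      intro T x hx
      obtain ⟨j, hj⟩ := T.2 ⟨x, hx⟩
      have hj' : x ^ (3 ^ j) = 1 := congrArg Subtype.val hj
      apply mem_normal_of_coprime N x (3 ^ j) hj'
      rw [hidxN, hm]
      exact Nat.Coprime.pow _ _ (by norm_num)
    have hinj : Function.Injective (H.subtype.comp N.subtype) := by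
      intro a b hab
      exact Subtype.ext (Subtype.ext hab)
    have := Cfsg.Agent.S0275.sylow_unique_of_odd (H.subtype.comp N.subtype) hinj
      (by norm_num : (3 : ℕ) ≠ 2) hNodd (P.subtype (hle P)) (Q.subtype (hle Q))
    exact hPQ (Sylow.subtype_injective this)
  have hF := (Cfsg.Agent.S0071.result S).not.mp hno
  push Not at hF
  obtain ⟨Q₀, hQ₀S, g, hgN, hcop, hgC⟩ := hF
  obtain ⟨A, z, hAcyc, hz1, hzz, hzA, hP1, hP1', hP2, hP3⟩ :=
    quat_hyps (S : Subgroup H) (2 ^ k) e
  obtain ⟨i, j, g', hi4, hi2, hjj, hji, hgi, hgj, hg'odd⟩ :=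
    Cfsg.Agent.Lib.Helper1.quat_odd_aut (S : Subgroup H) A z S.2 hAcyc hz1 hzz hzA hP1 hP1' hP2 hP3
      Q₀ hQ₀S g hgN hcop hgC
  obtain ⟨hci, hcj⟩ := Cfsg.Agent.Lib.Helper1.qrel_cube hjj hji hgi hgj
  have hij : i * j ≠ j * i := by
    intro h
    apply hi2
    have h1 : j * i * j⁻¹ = i := by rw [← h]; group
    rw [h1] at hji
    rw [pow_two]
    nth_rewrite 1 [hji]
    exact inv_mul_cancel i
  set m : H → Matrix (Fin 2) (Fin 2) F :=
    fun y => ((y : Matrix.SpecialLinearGroup (Fin 2) F) : Matrix (Fin 2) (Fin 2) F) with hm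
  have hm_mul : ∀ a b : H, m (a * b) = m a * m b := fun a b => rfl
  have hm_inj : ∀ a b : H, m a = m b → a = b := fun a b h => Subtype.ext (Subtype.ext h)
  have hg3 : g' ^ 3 = 1 := by
    have hsc : ¬ Cfsg.Agent.S0275.NonScalar (m (g' ^ 3)) := by
      intro hns
      apply hij
      apply hm_inj
      rw [hm_mul, hm_mul]
      apply Cfsg.Agent.S0275.commute_of_commute_nonscalar (m (g' ^ 3)) (m i) (m j) hns
      · rw [← hm_mul, ← hm_mul, hci.eq]
      · rw [← hm_mul, ← hm_mul, hcj.eq]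
    unfold Cfsg.Agent.S0275.NonScalar at hsc
    push Not at hsc
    have hw := scalar_sl2 ((g' ^ 3 : H) : Matrix.SpecialLinearGroup (Fin 2) F)
      ⟨hsc.1, hsc.2.1, hsc.2.2⟩
    have hw2 : (g' ^ 3) ^ 2 = 1 := by
      apply Subtype.ext
      rw [Subgroup.coe_pow, Subgroup.coe_one]
      rcases hw with h | h
      · rw [h, one_pow]
      · rw [h]
        apply Subtype.ext
        simp
    have h1 : orderOf (g' ^ 3) ∣ 2 := orderOf_dvd_of_pow_eq_one hw2
    have h2 : orderOf (g' ^ 3) ∣ orderOf g' := orderOf_pow_dvd 3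
    have h3 : orderOf (g' ^ 3) = 1 := Nat.eq_one_of_dvd_coprimes hg'odd h2 h1
    exact orderOf_eq_one_iff.mp h3
  have hi3 : i ^ 3 = i⁻¹ := by
    apply eq_inv_of_mul_eq_one_left
    rw [← pow_succ]
    exact hi4
  set K' : Subgroup H := Subgroup.closure ({i, j, g'} : Set H) with hK'
  set i' : K' := ⟨i, Subgroup.subset_closure (by simp)⟩ with hi'
  set j' : K' := ⟨j, Subgroup.subset_closure (by simp)⟩ with hj'
  set g'' : K' := ⟨g', Subgroup.subset_closure (by simp)⟩ with hg''
  have hQG : Cfsg.Agent.Lib.Helper1.QGens i' j' g'' :=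
    { i4 := Subtype.ext (by simpa using hi4)
      j2 := Subtype.ext (by
        show j ^ 2 = i ^ 2
        rw [pow_two, pow_two, hjj])
      ji := Subtype.ext (by
        show j * i * j⁻¹ = i ^ 3
        rw [hji, hi3])
      gi := Subtype.ext hgi
      gj := Subtype.ext hgj
      g3 := Subtype.ext (by simpa using hg3) }
  have hne : i' ^ 2 ≠ 1 := by
    intro h
    apply hi2
    have := congrArg Subtype.val h
    simpa using this
  obtain ⟨eK⟩ := Cfsg.Agent.Lib.Helper1.iso_SL23 i' j' g'' hQG (closure_triple_top i j g') hne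
  refine ⟨K'.map H.subtype, Subgroup.map_subtype_le K', ?_⟩
  exact ⟨(K'.equivMapOfInjective H.subtype H.subtype_injective).symm.trans eK⟩

end Cfsg.Agent.Lib.Helper1.Dickson
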