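import Mathlib
import Cfsg.Agent.S0274
import Cfsg.Agent.S0594
import Cfsg.Agent.Lib.Helper5.QuadSec

set_option autoImplicit false

namespace Cfsg.Agent.Lib.Helper1.Dickson

open Cfsg.Agent.Lib.Helper5

universe v

theorem quad_dickson_lin {K : Type} [Field K] [Fintype K] {p : ℕ} [Fact p.Prime] [CharP K p]
    (hp : p ≠ 2) {Γ : Type v} [Group Γ] [Finite Γ] (x y : Γ)
    (hgen : Subgroup.closure {x, y} = (⊤ : Subgroup Γ)) (hxp : x ^ p = 1) (hyp : y ^ p = 1)
    (φ : Γ →* Matrix.SpecialLinearGroup (Fin 2) K)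
    (hφ : ¬ ∀ d ∈ (⊤ : Subgroup Γ), ∃ j : ℕ, φ d ^ (p ^ j) = 1) :
    ∃ (Y : Subgroup Γ) (f : Y →* Matrix.SpecialLinearGroup (Fin 2) (ZMod p)),
      Function.Surjective f := by
  have hlt : 1 < Nat.card (Sylow p φ.range) := by
    by_contra hcon
    push Not at hcon
    haveI : Subsingleton (Sylow p φ.range) := (Finite.card_le_one_iff_subsingleton).mp hcon
    obtain ⟨P⟩ : Nonempty (Sylow p φ.range) := inferInstance
    apply hφ
    have hmem : ∀ d : Γ, d ^ p = 1 → φ.rangeRestrict d ∈ P := by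
      intro d hd
      have hZ : IsPGroup p (Subgroup.zpowers (φ.rangeRestrict d)) := by
        rintro ⟨g, hg⟩
        obtain ⟨m, rfl⟩ := Subgroup.mem_zpowers_iff.mp hg
        refine ⟨1, ?_⟩
        apply Subtype.ext
        rw [pow_one]
        show (φ.rangeRestrict d ^ m) ^ p = 1
        rw [← zpow_natCast, ← zpow_mul, mul_comm, zpow_mul, zpow_natCast, ← map_pow, hd, map_one,
          one_zpow]
      obtain ⟨P', hP'⟩ := hZ.exists_le_sylow
      rw [Subsingleton.elim P P']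
      exact hP' (Subgroup.mem_zpowers _)
    have htop : (P : Subgroup φ.range).comap φ.rangeRestrict = ⊤ := by
      rw [eq_top_iff, ← hgen, Subgroup.closure_le]
      rintro d (rfl | hd)
      · exact hmem _ hxp
      · rw [Set.mem_singleton_iff] at hd
        subst hd
        exact hmem _ hyp
    intro d _
    have hd : φ.rangeRestrict d ∈ P := by
      have : d ∈ (P : Subgroup φ.range).comap φ.rangeRestrict := by rw [htop]; trivial
      exact this
    obtain ⟨j, hj⟩ := P.2 ⟨_, hd⟩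
    refine ⟨j, ?_⟩
    have := congrArg (fun w : P => ((w : φ.range) : Matrix.SpecialLinearGroup (Fin 2) K)) hj
    simpa using this
  obtain ⟨K₀, hK₀, ⟨e₀⟩⟩ := Cfsg.Agent.S0274.result p hp φ.range hlt
  refine ⟨K₀.comap φ, e₀.toMonoidHom.comp (φ.subgroupComap K₀), ?_⟩
  intro z
  obtain ⟨⟨w, hw⟩, rfl⟩ := e₀.surjective z
  obtain ⟨g, rfl⟩ := hK₀ hw
  exact ⟨⟨g, hw⟩, rfl⟩

theorem quad_dickson_abs {p : ℕ} [Fact p.Prime] (hp : p ≠ 2) {Γ : Type v} [Group Γ] [Finite Γ]
    {E : Type*} [CommGroup E] [Finite E] [Module (ZMod p) (Additive E)] (α : Γ →* MulAut E)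
    (hα : Function.Injective α) (x y : Γ)
    (hgen : Subgroup.closure {x, y} = (⊤ : Subgroup Γ)) (hx : QuadA α x) (hy : QuadA α y)
    (hnp : ¬ IsPGroup p Γ) :
    ∃ (Y : Subgroup Γ) (f : Y →* Matrix.SpecialLinearGroup (Fin 2) (ZMod p)),
      Function.Surjective f := by
  apply linearize (p := p) α hα x y hx hy
  intro K _ _ _ n ρ e k hρ hqx hqy hkd hxy
  have hxp : x ^ p = 1 := quadA_pow_p (p := p) α hα x hx
  have hyp : y ^ p = 1 := quadA_pow_p (p := p) α hα y hy
  have hD : ¬ ∀ d ∈ (⊤ : Subgroup Γ), ∃ j : ℕ, ρ d ^ (p ^ j) = 1 := by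
    intro hall
    apply hnp
    intro d
    obtain ⟨j, hj⟩ := hall d (Subgroup.mem_top d)
    refine ⟨j, ?_⟩
    apply hρ
    rw [map_pow, map_one]
    exact hj
  obtain ⟨φ, hφ⟩ := main_aux_sub (K := K) (p := p) x y hgen e k hkd hxy ⊤ n (Fin n → K) ρ
    (Module.finrank_fin_fun K) hqx hqy hD
  exact quad_dickson_lin hp x y hgen hxp hyp φ hφ

end Cfsg.Agent.Lib.Helper1.Dickson
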